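/-
A quadratic space over an extension field seen over the ground field: lifting Eichler transformations.
-/
import Cfsg.Agent.Lib.Classical22.OrthMaxMove
import Mathlib.RingTheory.Trace.Basic
import Mathlib.FieldTheory.Finite.GaloisField

set_option autoImplicit false
set_option linter.all false

namespace CfsgLib.Classical22.OrthField

open CfsgLib.Classical
open scoped commutatorElement

variable {F : Type*} [Field F] {K : Type*} [Field K] [Algebra F K]

/-- A subspace with one in it, stable under multiplication by `a`, forces `a` into the ground field. -/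
lemma mem_bot_of_stable (hr : (Module.finrank F K).Prime) {W : Submodule F K} (h1 : (1 : K) ∈ W) (hW : W ≠ ⊤)
    {a : K} (ha : ∀ w ∈ W, a * w ∈ W) : ∃ t : F, algebraMap F K t = a := by
  let Q : Subalgebra F K :=
    { carrier := {b | ∀ w ∈ W, b * w ∈ W}
      mul_mem' := fun {b c} p q w hw => by rw [mul_assoc]; exact p _ (q w hw)
      add_mem' := fun {b c} p q w hw => by rw [add_mul]; exact W.add_mem (p w hw) (q w hw)
      algebraMap_mem' := fun t w hw => by rw [← Algebra.smul_def]; exact W.smul_mem t hw }
  haveI := Subalgebra.isSimpleOrder_of_finrank_prime F K hr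
  have hQ : Q = ⊥ := (eq_bot_or_eq_top Q).resolve_right fun h => hW (eq_top_iff.2 fun b _ => by
    have hb : b ∈ Q := h ▸ Algebra.mem_top
    simpa using hb 1 h1)
  exact Algebra.mem_bot.1 (hQ ▸ (show a ∈ Q from ha))

/-- Hua: in odd characteristic a subspace with one in it and closed under inverses is everything or the
ground field. -/
theorem eq_top_of_inv (hr : (Module.finrank F K).Prime) (h2 : (2 : K) ≠ 0) {U : Submodule F K}
    (h1 : (1 : K) ∈ U) (hinv : ∀ u ∈ U, u⁻¹ ∈ U) {u₀ : K} (hu₀ : u₀ ∈ U)
    (hne : ∀ t : F, algebraMap F K t ≠ u₀) : U = ⊤ := by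
  have hhua : ∀ {a b : K}, a ∈ U → b ∈ U → a * a * b ∈ U := by
    intro a b ha hb
    by_cases ha0 : a = 0
    · simp [ha0]
    by_cases hb0 : b = 0
    · simp [hb0]
    by_cases hab : a * b = 1
    · rwa [mul_assoc, hab, mul_one]
    have hd : b⁻¹ - a ≠ 0 := sub_ne_zero.2 fun e => hab (by rw [← e, inv_mul_cancel₀ hb0])
    have h4 : 1 - a * b ≠ 0 := sub_ne_zero.2 fun e => hab e.symm
    have h := U.sub_mem ha (hinv _ (U.add_mem (hinv a ha) (hinv _ (U.sub_mem (hinv b hb) ha))))
    have e5 : a⁻¹ + (b⁻¹ - a)⁻¹ = (a * (1 - a * b))⁻¹ := by field_simp; ring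
    rwa [e5, inv_inv, show a - a * (1 - a * b) = a * a * b by ring] at h
  have h2F : (2 : F) ≠ 0 := fun h => h2 (by rw [← map_ofNat (algebraMap F K) 2, h, map_zero])
  have hmul : ∀ {a b : K}, a ∈ U → b ∈ U → a * b ∈ U := fun {a b} ha hb => by
    have h := U.smul_mem (2 : F)⁻¹ (U.sub_mem (U.sub_mem (hhua (U.add_mem ha h1) hb) (hhua ha hb)) hb)
    rwa [show (a + 1) * (a + 1) * b - a * a * b - b = (2 : F) • (a * b) by
      rw [Algebra.smul_def, map_ofNat]; ring, smul_smul, inv_mul_cancel₀ h2F, one_smul] at h
  by_contra hU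
  obtain ⟨t, ht⟩ := mem_bot_of_stable hr h1 hU fun w hw => hmul hu₀ hw
  exact hne t ht

variable {V : Type*} [AddCommGroup V] [Module F V] [Module K V] [IsScalarTower F K V]

/-- `Q` is the trace of the quadratic form `R` over `K`. -/
structure Over (Q : QuadraticForm F V) (R : QuadraticForm K V) : Prop where
  quad : ∀ x, Q x = Algebra.trace F K (R x)
  nd : PolarNondeg R
  two : (2 : F) ≠ 0

variable {Q : QuadraticForm F V} {R : QuadraticForm K V}

namespace Over

variable (E : Over Q R)
include E

lemma two' : (2 : K) ≠ 0 := fun h => E.two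
  ((algebraMap F K).injective (by rw [map_ofNat, h, map_zero]))

lemma polar (x y : V) : QuadraticMap.polar Q x y = Algebra.trace F K (QuadraticMap.polar R x y) := by
  simp [QuadraticMap.polar, E.quad, map_sub]

omit E [Module F V] [IsScalarTower F K V] in
lemma polar_self_zero {v : V} (hv : R v = 0) : QuadraticMap.polar R v v = 0 := by
  rw [quad_polar_self, hv, mul_zero]

lemma sing {v : V} (hv : R v = 0) (k : K) : Q (k • v) = 0 := by
  rw [E.quad, quad_smul, hv, mul_zero, map_zero]

lemma polar_zero {x y : V} (h : QuadraticMap.polar R x y = 0) : QuadraticMap.polar Q x y = 0 := by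
  rw [E.polar, h, map_zero]

variable [FiniteDimensional F K]

lemma trace_ext [Finite K] {a : K} (h : ∀ k, Algebra.trace F K (k * a) = 0) : a = 0 :=
  (traceForm_nondegenerate F K).1 a fun k => by rw [Algebra.traceForm_apply, mul_comm]; exact h k

lemma polarNondeg [Finite K] : PolarNondeg Q := fun x hx => E.nd x fun y => E.trace_ext fun k => by
  rw [← smul_eq_mul, ← QuadraticMap.polar_smul_right, ← E.polar, hx]

omit [FiniteDimensional F K] in
/-- An element of the group over `K` as one over `F`. -/
noncomputable def lift : qAut R →* qAut Q where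
  toFun g := ⟨g.1.restrictScalars F, fun v => by
    rw [E.quad, E.quad, LinearEquiv.restrictScalars_apply, qAut_map]⟩
  map_one' := qAut_ext fun _ => rfl
  map_mul' _ _ := qAut_ext fun _ => rfl

omit [FiniteDimensional F K] in
@[simp] lemma lift_apply (g : qAut R) (x : V) : (E.lift g).1 x = g.1 x := rfl

variable [Fintype F] [Fintype K] [FiniteDimensional F V] [FiniteDimensional K V]

omit [Fintype F] [FiniteDimensional F V] [FiniteDimensional F K] [Fintype K] in
lemma exists_aniso_perp_one (hd : 3 ≤ Module.finrank K V) {u : V} :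
    ∃ a, QuadraticMap.polar R u a = 0 ∧ R a ≠ 0 := by
  by_contra hc
  push Not at hc
  have h := two_mul_finrank_singular R E.nd (W := qPerp R (Submodule.span K {u}))
    fun w hw => hc w ((mem_qPerp_singleton R).1 hw)
  rw [finrank_qPerp R E.nd] at h
  have := finrank_span_le_card (R := K) ({u} : Set V)
  simp only [Set.toFinset_singleton, Finset.card_singleton] at this
  omega

/-- The lifts of Eichler transformations over `K` are in the Eichler group over `F`. -/
theorem lift_mem (hd : 3 ≤ Module.finrank K V) (hn : 5 ≤ Module.finrank F V) {g : qAut R} (hg : g ∈ eichGroup R) :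
    E.lift g ∈ eichGroup Q := by
  revert g
  suffices h : eichGroup R ≤ (eichGroup Q).comap E.lift from fun {g} hg => h hg
  rw [eichGroup_eq_commutator Q E.polarNondeg hn]
  refine (Subgroup.closure_le _).2 ?_
  rintro _ ⟨u, w, hu, huw, rfl⟩
  have hani : ∀ w : V, R w ≠ 0 → QuadraticMap.polar R u w = 0 → E.lift (eich R u w) ∈ commutator (qAut Q) := by
    intro w hw huw
    have h2 := E.two'
    obtain ⟨x, hx⟩ : ∃ x, x = (-(2 : K)⁻¹) • w := ⟨_, rfl⟩
    have hux : QuadraticMap.polar R u x = 0 := by rw [hx, QuadraticMap.polar_smul_right, huw, smul_zero]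
    have hru : (qRefl R hw).1 u = u := qRefl_fix R hw huw
    have hrx : (qRefl R hw).1 x = -x := by
      rw [qRefl_apply, hx, QuadraticMap.polar_smul_left, quad_polar_self, smul_eq_mul]
      match_scalars
      field_simp
      ring
    have e : qRefl R hw * eich R u x * (qRefl R hw)⁻¹ * (eich R u x)⁻¹ = eich R u w := by
      rw [eich_conj R _ hu hux, hru, hrx, eich_inv R hu hux, eich_mul R hu
        (by rw [QuadraticMap.polar_neg_right, hux, neg_zero]) (by rw [QuadraticMap.polar_neg_right, hux, neg_zero])]
      congr 1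
      rw [hx]
      match_scalars
      field_simp
      ring
    rw [← e, map_mul, map_mul, map_mul, map_inv, map_inv]
    exact Subgroup.commutator_mem_commutator (Subgroup.mem_top _) (Subgroup.mem_top _)
  change E.lift (eich R u w) ∈ commutator (qAut Q)
  by_cases hw : R w = 0
  swap
  · exact hani w hw huw
  obtain ⟨a, hua, ha⟩ := E.exists_aniso_perp_one (u := u) hd
  obtain ⟨s, hs0, hs⟩ : ∃ s : K, s ≠ 0 ∧ R (w + s • a) ≠ 0 := by
    by_contra hc
    push Not at hc
    have h1 := hc 1 one_ne_zero
    have h1' := hc (-1) (neg_ne_zero.2 one_ne_zero)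
    simp only [quad_add, quad_smul, hw, QuadraticMap.polar_smul_right, smul_eq_mul] at h1 h1'
    have h4 : (2 : K) * R a = 0 := by linear_combination h1 + h1'
    exact ha ((mul_eq_zero.1 h4).resolve_left E.two')
  have p1 : QuadraticMap.polar R u (w + s • a) = 0 := by
    rw [QuadraticMap.polar_add_right, QuadraticMap.polar_smul_right, huw, hua, smul_zero, add_zero]
  have p2 : QuadraticMap.polar R u (-(s • a)) = 0 := by
    rw [QuadraticMap.polar_neg_right, QuadraticMap.polar_smul_right, hua, smul_zero, neg_zero]
  rw [show eich R u w = eich R u (w + s • a) * eich R u (-(s • a)) by rw [eich_mul R hu p1 p2, add_neg_cancel_right],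
    map_mul]
  refine mul_mem (hani _ hs p1) (hani _ ?_ p2)
  rw [← neg_smul, quad_smul]
  exact mul_ne_zero (mul_ne_zero (neg_ne_zero.2 hs0) (neg_ne_zero.2 hs0)) ha

omit [Fintype K] [Fintype F] [FiniteDimensional F V] [FiniteDimensional F K] [FiniteDimensional K V] in
/-- The formula for a root element over `K`. -/
lemma root_apply {v t : V} (hv : R v = 0) (ht : QuadraticMap.polar R v t = 0) (x : V) :
    (E.lift (eich R v t)).1 x = x + QuadraticMap.polar R x v • t -
      (QuadraticMap.polar R x t + R t * QuadraticMap.polar R x v) • v := by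
  rw [lift_apply, eich_apply R hv ht]

end Over

/-- The hypothesis on the group. -/
def LinIn (E : Over Q R) (M : Subgroup (qAut Q)) : Prop := ∀ g ∈ eichGroup R, E.lift g ∈ M

end CfsgLib.Classical22.OrthField
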