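/-
A map keeping no singular line gives an element fixing a singular vector and moving its line.
-/
import Cfsg.Agent.Lib.Classical22.OrthField.Basic

set_option autoImplicit false
set_option linter.all false

namespace CfsgLib.Classical22.OrthField

open CfsgLib.Classical

variable {F : Type*} [Field F] {K : Type*} [Field K] [Algebra F K]
variable {V : Type*} [AddCommGroup V] [Module F V] [Module K V] [IsScalarTower F K V]
variable [FiniteDimensional F K] [Fintype F] [Fintype K] [FiniteDimensional F V] [FiniteDimensional K V]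
variable {Q : QuadraticForm F V} {R : QuadraticForm K V} {M : Subgroup (qAut Q)}

/-- `y` fixes a singular vector and moves its line. -/
def Moving (R : QuadraticForm K V) (v : V) (y : qAut Q) : Prop :=
  R v = 0 ∧ v ≠ 0 ∧ y.1 v = v ∧ ∃ k : K, y.1 (k • v) ∉ Submodule.span K {v}

namespace Over

variable (E : Over Q R) (hM : LinIn E M) (hd : 4 ≤ Module.finrank K V)
include E hd

omit [FiniteDimensional F K] [FiniteDimensional F V] in
/-- A vector orthogonal to every singular vector orthogonal to `w` lies on the line of `w`. -/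
lemma mem_line_of_perp {w : V} (hw : R w ≠ 0) {z : V}
    (h : ∀ p, R p = 0 → QuadraticMap.polar R p w = 0 → QuadraticMap.polar R z p = 0) :
    ∃ c : K, z = c • w := by
  classical
  obtain ⟨W, hW⟩ : ∃ W : Submodule K V, W = Submodule.span K {w} := ⟨_, rfl⟩
  have hW0 : NdOn R W := fun a ha hab => by
    rw [hW] at ha
    obtain ⟨c, rfl⟩ := Submodule.mem_span_singleton.1 ha
    have := hab w (hW ▸ Submodule.mem_span_singleton_self w)
    rw [QuadraticMap.polar_smul_left, quad_polar_self, smul_eq_mul] at this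
    rw [(mul_eq_zero.1 this).resolve_right (mul_ne_zero E.two' hw), zero_smul]
  obtain ⟨a, ha, b, hb, hab⟩ := exists_add_qPerp R E.nd hW0 z
  rw [hW] at ha
  obtain ⟨c, hc⟩ := Submodule.mem_span_singleton.1 ha
  refine ⟨c, ?_⟩
  suffices hb0 : b = 0 by rw [← hab, hb0, add_zero, hc]
  by_contra hb0
  have hdim : 3 ≤ Module.finrank K (qPerp R W) := by
    rw [finrank_qPerp R E.nd, hW, finrank_span_singleton (fun e => hw (by rw [e, map_zero]))]
    omega
  obtain ⟨⟨p, hp⟩, hp0, hpb⟩ := exists_singular_polar (R.comp (qPerp R W).subtype)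
    (polarNondeg_comp R (ndOn_qPerp R E.nd hW0)) hdim (v := (⟨b, hb⟩ : qPerp R W))
    (fun e => hb0 (congrArg Subtype.val e))
  change R p = 0 at hp0
  have hpb' : QuadraticMap.polar R p b ≠ 0 := hpb
  rw [hW, mem_qPerp_singleton] at hp
  have h1 := h p hp0 ((QuadraticMap.polar_comm R p w).trans hp)
  rw [← hab, ← hc, QuadraticMap.polar_add_left, QuadraticMap.polar_smul_left, hp, smul_zero, zero_add,
    QuadraticMap.polar_comm] at h1
  exact hpb' h1

omit [FiniteDimensional F K] [FiniteDimensional F V] E in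
lemma exists_sing_move {a b : V} (E : Over Q R) (ha : R a = 0) (hb : R b = 0) (ha0 : a ≠ 0) (hb0 : b ≠ 0) :
    ∃ h ∈ eichGroup R, h.1 a = b :=
  exists_move_eichGroup R E.nd hd ha hb ha0 hb0

include hM

/-- Either a singular line is moved by an element fixing one of its vectors or it is sent to a line. -/
theorem moving_or_line {g : qAut Q} (hg : g ∈ M) {v : V} (hv : R v = 0) (hv0 : v ≠ 0) :
    (∃ v y, y ∈ M ∧ Moving R v y) ∨ ∀ k : K, ∃ k' : K, g.1 (k • v) = k' • g.1 v := by
  classical
  refine or_iff_not_imp_left.2 fun hne => ?_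
  push Not at hne
  by_cases hsing : ∃ k₀ : K, k₀ • v ≠ 0 ∧ R (g.1 (k₀ • v)) = 0
  · obtain ⟨k₀, hk₀, hw⟩ := hsing
    have hw0 : g.1 (k₀ • v) ≠ 0 := fun e => hk₀ (g.1.map_eq_zero_iff.1 e)
    have hsv : R (k₀ • v) = 0 := by rw [quad_smul, hv, mul_zero]
    obtain ⟨h, hh, hhw⟩ := exists_sing_move (Q := Q) hd E hw hsv hw0 hk₀
    have hy : E.lift h * g ∈ M := M.mul_mem (hM h hh) hg
    have hline : ∀ k : K, ∃ c : K, g.1 (k • v) = c • g.1 (k₀ • v) := by
      intro k
      by_contra hc
      refine hne (k₀ • v) _ hy ⟨hsv, hk₀, by rw [qAut_mul_apply, lift_apply, hhw], k * k₀⁻¹, fun hm => ?_⟩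
      have hk₀' : k₀ ≠ 0 := fun e => hk₀ (by rw [e, zero_smul])
      rw [smul_smul, mul_assoc, inv_mul_cancel₀ hk₀', mul_one, qAut_mul_apply, lift_apply] at hm
      obtain ⟨c, hc'⟩ := Submodule.mem_span_singleton.1 hm
      exact hc ⟨c, h.1.injective (by rw [map_smul h.1, hhw, hc'])⟩
    obtain ⟨c, hc⟩ := hline 1
    rw [one_smul] at hc
    have hc0 : c ≠ 0 := fun e => hv0 (g.1.map_eq_zero_iff.1 (by rw [hc, e, zero_smul]))
    intro k
    obtain ⟨d, hd'⟩ := hline k
    exact ⟨d / c, by rw [hd', hc, smul_smul, div_mul_cancel₀ _ hc0]⟩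
  push Not at hsing
  exfalso
  -- no singular vector in the image
  obtain ⟨w, hwdef⟩ : ∃ w, w = g.1 v := ⟨_, rfl⟩
  have hw : R w ≠ 0 := by
    have := hsing 1 (by rwa [one_smul])
    rwa [one_smul, ← hwdef] at this
  have hstab : ∀ p t, R p = 0 → QuadraticMap.polar R p t = 0 → QuadraticMap.polar R w p = 0 →
      QuadraticMap.polar R w t = 0 → ∀ k : K, ∃ l : K, (E.lift (eich R p t)).1 (g.1 (k • v)) = g.1 (l • v) := by
    intro p t hp hpt hwp hwt k
    have hy : g⁻¹ * E.lift (eich R p t) * g ∈ M := M.mul_mem (M.mul_mem (M.inv_mem hg) (hM _ (eich_mem R hp hpt))) hg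
    by_contra hc
    refine hne v _ hy ⟨hv, hv0, ?_, k, fun hm => ?_⟩
    · rw [qAut_mul_apply, qAut_mul_apply, ← hwdef, E.root_apply hp hpt, hwp, hwt]
      simp [hwdef, qInv_apply_self]
    · obtain ⟨l, hl⟩ := Submodule.mem_span_singleton.1 hm
      exact hc ⟨l, by rw [qAut_mul_apply, qAut_mul_apply] at hl; rw [hl, qApply_inv_self]⟩
  have hzero : ∀ (k : K) p, R p = 0 → QuadraticMap.polar R p w = 0 → QuadraticMap.polar R (g.1 (k • v)) p = 0 := by
    intro k p hp hpw
    obtain ⟨z, hz⟩ : ∃ z, z = g.1 (k • v) := ⟨_, rfl⟩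
    rw [← hz]
    by_contra hzp
    obtain ⟨t, hwt, hpt, htp⟩ : ∃ t, QuadraticMap.polar R w t = 0 ∧ QuadraticMap.polar R p t = 0 ∧
        t ∉ Submodule.span K {p} := by
      obtain ⟨t, ht, htn⟩ : ∃ t ∈ qPerp R (Submodule.span K {w}) ⊓ qPerp R (Submodule.span K {p}),
          t ∉ Submodule.span K {p} := SetLike.not_le_iff_exists.1 fun hle => by
        have h1 := Submodule.finrank_mono hle
        have h2 := Submodule.finrank_sup_add_finrank_inf_eq (qPerp R (Submodule.span K {w}))
          (qPerp R (Submodule.span K {p}))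
        have h3 := Submodule.finrank_le (qPerp R (Submodule.span K {w}) ⊔ qPerp R (Submodule.span K {p}))
        rw [finrank_qPerp R E.nd, finrank_qPerp R E.nd] at h2
        have h4 : ∀ x : V, Module.finrank K (Submodule.span K {x}) ≤ 1 := fun x => by
          simpa using finrank_span_le_card (R := K) ({x} : Set V)
        have := h4 w; have := h4 p
        omega
      exact ⟨t, (mem_qPerp_singleton R).1 ht.1, (mem_qPerp_singleton R).1 ht.2, htn⟩
    obtain ⟨s, hs⟩ : ∃ s, s = QuadraticMap.polar R z p • t - QuadraticMap.polar R z t • p := ⟨_, rfl⟩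
    have hs0 : s ≠ 0 := fun e => htp (Submodule.mem_span_singleton.2
      ⟨QuadraticMap.polar R z t / QuadraticMap.polar R z p, by
        rw [e, eq_comm, sub_eq_zero] at hs
        rw [div_eq_inv_mul, mul_smul, ← hs, inv_smul_smul₀ hzp]⟩)
    have hws : QuadraticMap.polar R w s = 0 := by
      rw [hs, QuadraticMap.polar_sub_right, QuadraticMap.polar_smul_right, QuadraticMap.polar_smul_right, hwt,
        QuadraticMap.polar_comm R w p, hpw, smul_zero, smul_zero, sub_zero]
    have himg : ∀ c : K, ∃ l : K, c • s = g.1 (l • v) := by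
      intro c
      have hpc : ∀ c : K, QuadraticMap.polar R p (c • t) = 0 := fun c => by
        rw [QuadraticMap.polar_smul_right, hpt, smul_zero]
      have hwc : ∀ c : K, QuadraticMap.polar R w (c • t) = 0 := fun c => by
        rw [QuadraticMap.polar_smul_right, hwt, smul_zero]
      have hwp : QuadraticMap.polar R w p = 0 := (QuadraticMap.polar_comm R w p).trans hpw
      obtain ⟨l₁, h1⟩ := hstab p ((c / 2) • t) hp (hpc _) hwp (hwc _) k
      obtain ⟨l₂, h2⟩ := hstab p ((-(c / 2)) • t) hp (hpc _) hwp (hwc _) k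
      refine ⟨l₁ - l₂, ?_⟩
      rw [sub_smul, map_sub, ← h1, ← h2, ← hz, E.root_apply hp (hpc _), E.root_apply hp (hpc _), hs,
        QuadraticMap.polar_smul_right, QuadraticMap.polar_smul_right, quad_smul, quad_smul, smul_eq_mul, smul_eq_mul]
      have h2' := E.two'
      match_scalars <;> field_simp <;> ring
    choose l hl using himg
    have hinj : Function.Injective l := fun a b hab => smul_left_injective K hs0 (by simp only [hl, hab])
    obtain ⟨c, hc⟩ := Finite.injective_iff_surjective.1 hinj 1
    have h5 : c • s = w := by rw [hl, hc, one_smul, hwdef]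
    have h6 : QuadraticMap.polar R w w = 0 := by
      nth_rewrite 2 [← h5]
      rw [QuadraticMap.polar_smul_right, hws, smul_zero]
    rw [quad_polar_self] at h6
    exact mul_ne_zero E.two' hw h6
  -- the image is the line of `w`, which is not totally singular
  choose c hc using fun k : K => E.mem_line_of_perp hd hw (hzero k)
  have hinj : Function.Injective c := fun a b hab => smul_left_injective K hv0 (g.1.injective (by rw [hc, hc, hab]))
  have hsurj := Finite.injective_iff_surjective.1 hinj
  have hQ : ∀ d : K, Algebra.trace F K (d * d * R w) = 0 := fun d => by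
    obtain ⟨k, rfl⟩ := hsurj d
    have := qAut_map g (k • v)
    rw [E.sing hv, hc, E.quad, quad_smul] at this
    exact this
  refine hw (E.trace_ext fun d => ?_)
  have e := hQ (d + 1)
  rw [show (d + 1) * (d + 1) * R w = d * d * R w + (2 : F) • (d * R w) + R w by
    rw [Algebra.smul_def, map_ofNat]; ring, map_add, map_add, map_smul, hQ d] at e
  have e1 := hQ 1
  rw [one_mul, one_mul] at e1
  rw [e1, zero_add, add_zero, smul_eq_mul] at e
  exact (mul_eq_zero.1 e).resolve_left E.two

omit hM in
/-- A map sending singular lines to lines sends all lines to lines. -/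
theorem lines_of_singular {g : qAut Q}
    (hg : ∀ v, R v = 0 → ∀ k : K, ∃ k' : K, g.1 (k • v) = k' • g.1 v) (p : V) (k : K) :
    ∃ k' : K, g.1 (k • p) = k' • g.1 p := by
  classical
  by_cases hp : R p = 0
  · exact hg p hp k
  have hp0 : p ≠ 0 := fun e => hp (by rw [e, map_zero])
  let T : Submodule K V :=
    { carrier := {x | ∀ s, R s = 0 → QuadraticMap.polar R s p = 0 → QuadraticMap.polar R x (g.1 s) = 0}
      add_mem' := fun {a b} ha hb s h1 h2 => by rw [QuadraticMap.polar_add_left, ha s h1 h2, hb s h1 h2, add_zero]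
      zero_mem' := fun s _ _ => by rw [QuadraticMap.polar_zero_left]
      smul_mem' := fun c x hx s h1 h2 => by rw [QuadraticMap.polar_smul_left, hx s h1 h2, smul_zero] }
  have hmem : ∀ k : K, g.1 (k • p) ∈ T := by
    intro k s hs hsp
    by_cases hs0 : s = 0
    · rw [hs0, map_zero, QuadraticMap.polar_zero_right]
    choose f hf using hg s hs
    have hinj : Function.Injective f := fun a b hab => smul_left_injective K hs0 (g.1.injective (by rw [hf, hf, hab]))
    refine E.trace_ext fun d => ?_
    obtain ⟨l, rfl⟩ := Finite.injective_iff_surjective.1 hinj d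
    rw [← smul_eq_mul, ← QuadraticMap.polar_smul_right, ← hf, ← E.polar, qAut_polar, E.polar,
      QuadraticMap.polar_smul_right, QuadraticMap.polar_smul_left, QuadraticMap.polar_comm R p s, hsp,
      smul_zero, smul_zero, map_zero]
  have hconv : ∀ x ∈ T, ∃ c : K, x = g.1 (c • p) := by
    intro x hx
    obtain ⟨c, hc⟩ := E.mem_line_of_perp hd hp (z := (g⁻¹).1 x) fun s hs hsp => E.trace_ext fun d => by
      rw [← smul_eq_mul, ← QuadraticMap.polar_smul_right, ← E.polar, ← qAut_polar g, qApply_inv_self, E.polar]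
      obtain ⟨d', hd'⟩ := hg s hs d
      rw [hd', QuadraticMap.polar_smul_right, hx s hs hsp, smul_zero, map_zero]
    exact ⟨c, by rw [← hc, qApply_inv_self]⟩
  have hgp : g.1 p ≠ 0 := fun e => hp0 (g.1.map_eq_zero_iff.1 e)
  choose f hf using fun d : K => hconv (d • g.1 p) (T.smul_mem d (by simpa using hmem 1))
  have hinj : Function.Injective f := fun a b hab => smul_left_injective K hgp (by simp only [hf, hab])
  obtain ⟨d, hd'⟩ := Finite.injective_iff_surjective.1 hinj k
  exact ⟨d, by rw [hf, hd']⟩

end Over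

end CfsgLib.Classical22.OrthField
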