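/-
An element moving a line gives a group of transvections of a singular line.
-/
import Cfsg.Agent.Lib.Classical22.OrthField.Turn
import Mathlib.FieldTheory.ChevalleyWarning

set_option autoImplicit false
set_option linter.all false

namespace CfsgLib.Classical22.OrthField

open CfsgLib.Classical MvPolynomial

variable {F : Type*} [Field F] {K : Type*} [Field K] [Algebra F K]

/-- A quadratic map in more variables than twice the matrix size has a singular value away from zero. -/
theorem exists_singular_value [Fintype F] {n e : ℕ} (he : 0 < e) (h : 2 * e < n) (a : Fin e → Fin e → Fin n → F)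
    (c : Fin e → Fin e → Fin n → Fin n → F) :
    ∃ x : Fin n → F, x ≠ 0 ∧ (Matrix.of fun i j => (∑ l, a i j l * x l) + ∑ l, ∑ m, c i j l m * x l * x m).det = 0 := by
  classical
  obtain ⟨P, hP⟩ : ∃ P : Matrix (Fin e) (Fin e) (MvPolynomial (Fin n) F), ∀ i j,
      P i j = (∑ l, C (a i j l) * X l) + ∑ l, ∑ m, C (c i j l m) * X l * X m := ⟨Matrix.of fun i j => _, fun i j => rfl⟩
  have hPd : ∀ i j, (P i j).totalDegree ≤ 2 := fun i j => by
    rw [hP]
    refine (totalDegree_add _ _).trans (max_le ?_ ?_)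
    · refine totalDegree_finsetSum_le fun l _ => (totalDegree_mul _ _).trans ?_
      rw [totalDegree_C, totalDegree_X]; omega
    · refine totalDegree_finsetSum_le fun l _ => totalDegree_finsetSum_le fun m _ => ?_
      refine (totalDegree_mul _ _).trans ((Nat.add_le_add_right (totalDegree_mul _ _) _).trans ?_)
      rw [totalDegree_C, totalDegree_X, totalDegree_X]
  have hdet : P.det.totalDegree < Fintype.card (Fin n) := by
    rw [Matrix.det_apply, Fintype.card_fin]
    refine lt_of_le_of_lt (totalDegree_finsetSum_le (d := 2 * e) fun σ _ => ?_) h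
    refine (totalDegree_smul_le _ _).trans ((totalDegree_finset_prod _ _).trans ?_)
    exact (Finset.sum_le_sum fun i _ => hPd (σ i) i).trans (by simp [mul_comm])
  obtain ⟨p, hp⟩ := CharP.exists F
  haveI : Fact p.Prime := ⟨CharP.char_is_prime F p⟩
  have heval : ∀ x : Fin n → F, eval x P.det =
      (Matrix.of fun i j => (∑ l, a i j l * x l) + ∑ l, ∑ m, c i j l m * x l * x m).det := fun x => by
    rw [RingHom.map_det]
    congr 1
    ext i j
    simp [hP, map_sum]
  have hdvd := char_dvd_card_solutions p hdet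
  have h0 : eval (0 : Fin n → F) P.det = 0 := by
    rw [heval, show (Matrix.of fun i j => (∑ l, a i j l * (0 : Fin n → F) l) +
      ∑ l, ∑ m, c i j l m * (0 : Fin n → F) l * (0 : Fin n → F) m) = 0 by ext i j; simp]
    haveI : Nonempty (Fin e) := ⟨⟨0, he⟩⟩
    exact Matrix.det_zero
  have hlt : 1 < Fintype.card {x : Fin n → F // eval x P.det = 0} := by
    have hpos : 0 < Fintype.card {x : Fin n → F // eval x P.det = 0} := Fintype.card_pos_iff.2 ⟨⟨0, h0⟩⟩
    exact lt_of_lt_of_le (Fact.out : p.Prime).one_lt (Nat.le_of_dvd hpos hdvd)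
  obtain ⟨⟨x, hx⟩, hne⟩ := Fintype.exists_ne_of_one_lt_card hlt ⟨0, h0⟩
  exact ⟨x, fun h => hne (Subtype.ext h), by rw [← heval]; exact hx⟩

variable {V : Type*} [AddCommGroup V] [Module F V] [Module K V] [IsScalarTower F K V]
variable {Q : QuadraticForm F V} {R : QuadraticForm K V} {M : Subgroup (qAut Q)}

/-- The scalars `k` with `y (k • v)` on the line through `v`. -/
noncomputable def back (v : V) (y : qAut Q) : Submodule F K :=
  ((Submodule.span K {v}).restrictScalars F).comap
    (y.1.toLinearMap ∘ₗ (LinearMap.toSpanSingleton K V v).restrictScalars F)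

lemma mem_back {v : V} {y : qAut Q} {k : K} : k ∈ back v y ↔ y.1 (k • v) ∈ Submodule.span K {v} := Iff.rfl

variable [FiniteDimensional F K] [Fintype F] [Fintype K] [FiniteDimensional F V] [FiniteDimensional K V]

/-- `y` has the largest intersection of the line with its preimage. -/
def Best (M : Subgroup (qAut Q)) (v : V) (y : qAut Q) : Prop :=
  y ∈ M ∧ y.1 v = v ∧ back (K := K) v y ≠ ⊤ ∧ ∀ y' ∈ M, y'.1 v = v → back (K := K) v y' ≠ ⊤ →
    Module.finrank F (back (K := K) v y') ≤ Module.finrank F (back (K := K) v y)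

namespace Over

variable (E : Over Q R) (hM : LinIn E M) (hd : 4 ≤ Module.finrank K V)
include E hM hd

omit hd [FiniteDimensional F V] [FiniteDimensional K V] [Fintype F] in
/-- An element of the stabiliser that increases the intersection stabilises the image of the line. -/
theorem best_key {v : V} (hv : R v = 0) {y : qAut Q} (hb : Best (K := K) M v y) {t : V}
    (ht : QuadraticMap.polar R v t = 0) {k : K} (hk : k ∉ back v y)
    (hkm : ∃ m : K, (E.lift (eich R v t)).1 (y.1 (k • v)) = y.1 (m • v)) :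
    ∀ l : K, ∃ m : K, (E.lift (eich R v t)).1 (y.1 (l • v)) = y.1 (m • v) := by
  classical
  obtain ⟨hy, hyv, -, hmax⟩ := hb
  obtain ⟨h, hh⟩ : ∃ h, h = E.lift (eich R v t) := ⟨_, rfl⟩
  have hhM : h ∈ M := hh ▸ hM _ (eich_mem R hv ht)
  rw [← hh] at hkm ⊢
  have hhL : ∀ c : K, h.1 (c • v) = c • v := fun c => by
    rw [hh, lift_apply, map_smul, eich_fix R hv ht]
  have hhv : h.1 v = v := by simpa using hhL 1
  have hyi : (y⁻¹).1 v = v := by conv_lhs => rw [← hyv, qInv_apply_self]
  have hiff : ∀ l : K, l ∈ back (K := K) v (y⁻¹ * h * y) ↔ ∃ m : K, h.1 (y.1 (l • v)) = y.1 (m • v) := fun l => by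
    rw [mem_back, qAut_mul_apply, qAut_mul_apply, Submodule.mem_span_singleton]
    refine exists_congr fun m => ⟨fun e => ?_, fun e => ?_⟩
    · rw [e, qApply_inv_self]
    · rw [e, qInv_apply_self]
  have hle : back (K := K) v y < back (K := K) v (y⁻¹ * h * y) := by
    refine lt_of_le_of_ne (fun l hl => (hiff l).2 ⟨l, ?_⟩) fun he => hk ?_
    · obtain ⟨c, hc⟩ := Submodule.mem_span_singleton.1 (mem_back.1 hl)
      rw [← hc, hhL]
    · rw [he]; exact (hiff k).2 hkm
  by_contra hc
  push Not at hc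
  obtain ⟨l, hl⟩ := hc
  refine absurd (hmax (y⁻¹ * h * y) (M.mul_mem (M.mul_mem (M.inv_mem hy) hhM) hy) ?_ fun htop => ?_)
    (not_le.2 (Submodule.finrank_lt_finrank_of_lt hle))
  · rw [qAut_mul_apply, qAut_mul_apply, hyv, hhv, hyi]
  · obtain ⟨m, hm⟩ := (hiff l).1 (htop ▸ Submodule.mem_top)
    exact hl m hm

/-- If some image vector is not orthogonal to `v`, all outside the line are not. -/
theorem best_kernel {v : V} (hv : R v = 0) (hv0 : v ≠ 0) {y : qAut Q} (hb : Best (K := K) M v y)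
    (hne : ∃ k : K, QuadraticMap.polar R (y.1 (k • v)) v ≠ 0) {k₀ : K}
    (h0 : QuadraticMap.polar R (y.1 (k₀ • v)) v = 0) : k₀ ∈ back (K := K) v y := by
  classical
  by_contra hk₀
  obtain ⟨k₁, hk₁⟩ := hne
  obtain ⟨z₀, hz₀⟩ : ∃ z, z = y.1 (k₀ • v) := ⟨_, rfl⟩
  rw [← hz₀] at h0
  obtain ⟨t, hvt, hzt, htv⟩ : ∃ t, QuadraticMap.polar R v t = 0 ∧ QuadraticMap.polar R z₀ t = 0 ∧
      t ∉ Submodule.span K {v} := by
    obtain ⟨t, ht, htn⟩ : ∃ t ∈ qPerp R (Submodule.span K {v}) ⊓ qPerp R (Submodule.span K {z₀}),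
        t ∉ Submodule.span K {v} := SetLike.not_le_iff_exists.1 fun hle => by
      have h1 := Submodule.finrank_mono hle
      have h2 := Submodule.finrank_sup_add_finrank_inf_eq (qPerp R (Submodule.span K {v}))
        (qPerp R (Submodule.span K {z₀}))
      have h3 := Submodule.finrank_le (qPerp R (Submodule.span K {v}) ⊔ qPerp R (Submodule.span K {z₀}))
      rw [finrank_qPerp R E.nd, finrank_qPerp R E.nd] at h2
      have h4 : ∀ x : V, Module.finrank K (Submodule.span K {x}) ≤ 1 := fun x => by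
        simpa using finrank_span_le_card (R := K) ({x} : Set V)
      have := h4 v; have := h4 z₀
      omega
    exact ⟨t, (mem_qPerp_singleton R).1 ht.1, (mem_qPerp_singleton R).1 ht.2, htn⟩
  obtain ⟨z, hz⟩ : ∃ z, z = y.1 (k₁ • v) := ⟨_, rfl⟩
  rw [← hz] at hk₁
  obtain ⟨s, hs⟩ : ∃ s, s = QuadraticMap.polar R z v • t - QuadraticMap.polar R z t • v := ⟨_, rfl⟩
  have hs0 : s ≠ 0 := fun e => htv (Submodule.mem_span_singleton.2
    ⟨QuadraticMap.polar R z t / QuadraticMap.polar R z v, by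
      rw [e, eq_comm, sub_eq_zero] at hs
      rw [div_eq_inv_mul, mul_smul, ← hs, inv_smul_smul₀ hk₁]⟩)
  have hvc : ∀ c : K, QuadraticMap.polar R v (c • t) = 0 := fun c => by
    rw [QuadraticMap.polar_smul_right, hvt, smul_zero]
  have hall : ∀ c l : K, ∃ m : K, (E.lift (eich R v (c • t))).1 (y.1 (l • v)) = y.1 (m • v) := fun c =>
    E.best_key hM hv hb (hvc c) hk₀ ⟨k₀, by
      rw [← hz₀, E.root_apply hv (hvc c), h0, QuadraticMap.polar_smul_right, hzt]
      simp⟩
  have himg : ∀ c : K, ∃ m : K, c • s = y.1 (m • v) := fun c => by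
    obtain ⟨m₁, h1⟩ := hall (c / 2) k₁
    obtain ⟨m₂, h2⟩ := hall (-(c / 2)) k₁
    refine ⟨m₁ - m₂, ?_⟩
    rw [sub_smul, map_sub, ← h1, ← h2, ← hz, E.root_apply hv (hvc _), E.root_apply hv (hvc _), hs,
      QuadraticMap.polar_smul_right, QuadraticMap.polar_smul_right, quad_smul, quad_smul, smul_eq_mul, smul_eq_mul]
    have h2' := E.two'
    match_scalars <;> field_simp <;> ring
  choose m hm using himg
  have hinj : Function.Injective m := fun a b hab => smul_left_injective K hs0 (by simp only [hm, hab])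
  obtain ⟨c, hc⟩ := Finite.injective_iff_surjective.1 hinj 1
  have h5 : c • s = v := by rw [hm, hc, one_smul, hb.2.1]
  have hc0 : c ≠ 0 := fun e => hv0 (by rw [← h5, e, zero_smul])
  refine htv (Submodule.mem_span_singleton.2
    ⟨(c * QuadraticMap.polar R z v)⁻¹ * (1 + c * QuadraticMap.polar R z t), ?_⟩)
  rw [hs] at h5
  have h6 : (1 + c * QuadraticMap.polar R z t) • v = (c * QuadraticMap.polar R z v) • t := by
    linear_combination (norm := module) -h5
  rw [mul_smul, h6, inv_smul_smul₀ (mul_ne_zero hc0 hk₁)]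

set_option maxHeartbeats 800000 in
/-- A best element can be chosen with the image of the line orthogonal to `v`. -/
theorem exists_best_perp {v : V} {y₁ : qAut Q} (hy₁ : y₁ ∈ M) (hm : Moving R v y₁) :
    ∃ y, Best (K := K) M v y ∧ ∀ k : K, QuadraticMap.polar R (y.1 (k • v)) v = 0 := by
  classical
  obtain ⟨hv, hv0, hy₁v, k', hk'⟩ := hm
  haveI : Finite V := Module.finite_of_finite F
  haveI : Finite (V ≃ₗ[F] V) := Finite.of_injective (fun e => (e : V → V)) DFunLike.coe_injective
  obtain ⟨y, ⟨hy, hyv, hyne⟩, hmax⟩ := Set.exists_max_image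
    {y : qAut Q | y ∈ M ∧ y.1 v = v ∧ back (K := K) v y ≠ ⊤}
    (fun y => Module.finrank F (back (K := K) v y)) (Set.toFinite _)
    ⟨y₁, hy₁, hy₁v, fun h => hk' (mem_back.1 (h ▸ Submodule.mem_top))⟩
  have hb : Best (K := K) M v y := ⟨hy, hyv, hyne, fun a h1 h2 h3 => hmax a ⟨h1, h2, h3⟩⟩
  by_cases hall : ∀ k : K, QuadraticMap.polar R (y.1 (k • v)) v = 0
  · exact ⟨y, hb, hall⟩
  push Not at hall
  obtain ⟨f, hf⟩ : ∃ f, QuadraticMap.polar R v f ≠ 0 := by
    by_contra hc
    push Not at hc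
    exact hv0 (E.nd v hc)
  obtain ⟨Y, hY⟩ : ∃ Y : Submodule K V, Y = qPerp R (Submodule.span K {v}) ⊓ qPerp R (Submodule.span K {f}) := ⟨_, rfl⟩
  have hYd : 2 ≤ Module.finrank K Y := by
    have h2 := Submodule.finrank_sup_add_finrank_inf_eq (qPerp R (Submodule.span K {v}))
      (qPerp R (Submodule.span K {f}))
    have h3 := Submodule.finrank_le (qPerp R (Submodule.span K {v}) ⊔ qPerp R (Submodule.span K {f}))
    rw [finrank_qPerp R E.nd, finrank_qPerp R E.nd, ← hY] at h2
    have h4 : ∀ x : V, Module.finrank K (Submodule.span K {x}) ≤ 1 := fun x => by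
      simpa using finrank_span_le_card (R := K) ({x} : Set V)
    have := h4 v; have := h4 f
    omega
  have hYv : ∀ t ∈ Y, QuadraticMap.polar R v t = 0 := fun t ht => by
    rw [hY] at ht; exact (mem_qPerp_singleton R).1 ht.1
  have hYn : ∀ t ∈ Y, t ∈ Submodule.span K {v} → t = 0 := fun t ht htv => by
    obtain ⟨c, rfl⟩ := Submodule.mem_span_singleton.1 htv
    rw [hY] at ht
    have := (mem_qPerp_singleton R).1 ht.2
    rw [QuadraticMap.polar_smul_right, QuadraticMap.polar_comm, smul_eq_mul] at this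
    rw [(mul_eq_zero.1 this).resolve_right hf, zero_smul]
  let Y' : Submodule F V := Y.restrictScalars F
  let e := Module.finBasis F Y'
  obtain ⟨C, hC⟩ := (back (K := K) v y).exists_isCompl
  let κ := Module.finBasis F C
  have hn : 2 * Module.finrank F C < Module.finrank F Y' := by
    have h1 := Submodule.finrank_add_eq_of_isCompl hC
    have h2 : Module.finrank F Y' = Module.finrank F K * Module.finrank K Y :=
      (Module.finrank_mul_finrank F K Y).symm
    have h3 : 1 ≤ Module.finrank F (back (K := K) v y) := Submodule.one_le_finrank_iff.2 fun h => by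
      have : (1 : K) ∈ back (K := K) v y := by
        rw [mem_back, one_smul, hyv]; exact Submodule.mem_span_singleton_self v
      rw [h, Submodule.mem_bot] at this
      exact one_ne_zero this
    have h4 : Module.finrank F K * 2 ≤ Module.finrank F K * Module.finrank K Y := Nat.mul_le_mul_left _ hYd
    omega
  obtain ⟨T, hT⟩ : ∃ T : K →ₗ[F] F, T = Algebra.trace F K := ⟨_, rfl⟩
  obtain ⟨b, hbd⟩ : ∃ b : K → K, ∀ k, b k = QuadraticMap.polar R (y.1 (k • v)) v := ⟨_, fun _ => rfl⟩
  have he : 0 < Module.finrank F C := Nat.pos_of_ne_zero fun h => hyne (by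
    have h1 := Submodule.finrank_add_eq_of_isCompl hC
    rw [h, add_zero] at h1
    exact Submodule.eq_top_of_finrank_eq h1)
  obtain ⟨x, hx0, hx⟩ := exists_singular_value he hn
    (fun i j l => T (b (κ i) * QuadraticMap.polar R (e l : V) (y.1 ((κ j : K) • v)) -
      QuadraticMap.polar R (y.1 ((κ i : K) • v)) (e l : V) * b (κ j)))
    (fun i j l m => -T (QuadraticMap.polar R (e l : V) (e m : V) * (2 : K)⁻¹ * b (κ i) * b (κ j)))
  obtain ⟨t, htd⟩ : ∃ t, t = ∑ l, x l • (e l : V) := ⟨_, rfl⟩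
  have htY : t ∈ Y := by
    have : t ∈ Y' := htd ▸ Y'.sum_mem fun l _ => Y'.smul_mem _ (e l).2
    exact this
  have ht0 : t ≠ 0 := fun h => hx0 (funext fun l => (Fintype.linearIndependent_iff.1 e.linearIndependent) x
    (Subtype.ext (by rw [htd] at h; simpa using h)) l)
  have ht := hYv t htY
  obtain ⟨h, hhd⟩ : ∃ h, h = E.lift (eich R v t) := ⟨_, rfl⟩
  have hhM : h ∈ M := hhd ▸ hM _ (eich_mem R hv ht)
  have hhL : ∀ c : K, h.1 (c • v) = c • v := fun c => by rw [hhd, lift_apply, map_smul, eich_fix R hv ht]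
  have hts : ∀ k l : K, QuadraticMap.polar Q (y.1 (k • v)) (y.1 (l • v)) = 0 := fun k l => by
    rw [qAut_polar, E.polar, QuadraticMap.polar_smul_left, QuadraticMap.polar_smul_right, polar_self_zero hv,
      smul_zero, smul_zero, map_zero]
  -- the form
  have hN : ∀ i j, (∑ l, T (b (κ i) * QuadraticMap.polar R (e l : V) (y.1 ((κ j : K) • v)) -
      QuadraticMap.polar R (y.1 ((κ i : K) • v)) (e l : V) * b (κ j)) * x l) +
      ∑ l, ∑ m, -T (QuadraticMap.polar R (e l : V) (e m : V) * (2 : K)⁻¹ * b (κ i) * b (κ j)) * x l * x m =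
      QuadraticMap.polar Q (h.1 (y.1 ((κ i : K) • v))) (y.1 ((κ j : K) • v)) := by
    intro i j
    rw [hhd, E.root_apply hv ht, QuadraticMap.polar_sub_left, QuadraticMap.polar_add_left, hts, zero_add, E.polar,
      E.polar, QuadraticMap.polar_smul_left, QuadraticMap.polar_smul_left, ← hbd,
      QuadraticMap.polar_comm R v, ← hbd, ← hT, ← map_sub]
    have e1 : R t = QuadraticMap.polar R t t * (2 : K)⁻¹ := by
      rw [quad_polar_self, mul_comm (2 : K), mul_assoc, mul_inv_cancel₀ E.two', mul_one]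
    have hlin : ∀ L : V →ₗ[F] F, ∑ l, L (e l : V) * x l = L t := fun L => by
      simp [htd, map_sum, mul_comm]
    obtain ⟨c, hcd⟩ : ∃ c, c = (2 : K)⁻¹ * b (κ i) * b (κ j) := ⟨_, rfl⟩
    have s1 : (∑ l, T (b (κ i) * QuadraticMap.polar R (e l : V) (y.1 ((κ j : K) • v)) -
        QuadraticMap.polar R (y.1 ((κ i : K) • v)) (e l : V) * b (κ j)) * x l) =
        T (b (κ i) * QuadraticMap.polar R t (y.1 ((κ j : K) • v)) -
          QuadraticMap.polar R (y.1 ((κ i : K) • v)) t * b (κ j)) := by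
      simpa [mul_comm (b (κ j))] using hlin (T ∘ₗ (b (κ i) • (QuadraticMap.polarBilin R).flip (y.1 ((κ j : K) • v)) -
        b (κ j) • QuadraticMap.polarBilin R (y.1 ((κ i : K) • v))).restrictScalars F)
    have s2 : ∀ u : V, (∑ m, T (QuadraticMap.polar R u (e m : V) * c) * x m) = T (QuadraticMap.polar R u t * c) :=
      fun u => by simpa [mul_comm c] using hlin (T ∘ₗ (c • QuadraticMap.polarBilin R u).restrictScalars F)
    have s3 : (∑ l, T (QuadraticMap.polar R (e l : V) t * c) * x l) = T (QuadraticMap.polar R t t * c) := by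
      simpa [mul_comm c] using hlin (T ∘ₗ (c • (QuadraticMap.polarBilin R).flip t).restrictScalars F)
    have s4 : (∑ l, ∑ m, -T (QuadraticMap.polar R (e l : V) (e m : V) * (2 : K)⁻¹ * b (κ i) * b (κ j)) * x l * x m) =
        -T (QuadraticMap.polar R t t * c) := by
      rw [← s3, ← Finset.sum_neg_distrib]
      refine Finset.sum_congr rfl fun l _ => ?_
      rw [← s2, Finset.sum_mul, ← Finset.sum_neg_distrib]
      refine Finset.sum_congr rfl fun m _ => ?_
      rw [hcd, ← mul_assoc, ← mul_assoc]; ring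
    rw [s1, s4, e1, hcd, ← sub_eq_zero, ← map_neg, ← map_add, ← map_sub]
    simp only [smul_eq_mul]
    refine (congrArg T ?_).trans T.map_zero
    ring
  obtain ⟨c, hc0, hc⟩ := Matrix.exists_vecMul_eq_zero_iff.2 hx
  obtain ⟨k₀, hk₀d⟩ : ∃ k₀ : K, k₀ = ∑ i, c i • (κ i : K) := ⟨_, rfl⟩
  have hk₀C : k₀ ∈ C := hk₀d ▸ C.sum_mem fun i _ => C.smul_mem _ (κ i).2
  have hk₀ : k₀ ∉ back (K := K) v y := fun hm => hc0 (funext fun i => by
    have := Submodule.disjoint_def.1 hC.disjoint k₀ hm hk₀C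
    rw [hk₀d] at this
    exact (Fintype.linearIndependent_iff.1 κ.linearIndependent) c (Subtype.ext (by simpa using this)) i)
  have hW : ∀ w ∈ back (K := K) v y, h.1 (y.1 (w • v)) = y.1 (w • v) := fun w hw => by
    obtain ⟨d, hd'⟩ := Submodule.mem_span_singleton.1 (mem_back.1 hw)
    rw [← hd', hhL]
  have hperp : ∀ l : K, QuadraticMap.polar Q (h.1 (y.1 (k₀ • v))) (y.1 (l • v)) = 0 := by
    intro l
    obtain ⟨w, hw, u, hu, rfl⟩ := Submodule.mem_sup.1 (hC.sup_eq_top ▸ Submodule.mem_top : l ∈ back (K := K) v y ⊔ C)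
    rw [add_smul, map_add, QuadraticMap.polar_add_right]
    nth_rewrite 1 [← hW w hw]
    rw [qAut_polar, hts, zero_add]
    obtain ⟨u', rfl⟩ : ∃ u' : C, (u' : K) = u := ⟨⟨u, hu⟩, rfl⟩
    rw [← κ.sum_repr u']
    simp only [Submodule.coe_sum, Submodule.coe_smul_of_tower, Finset.sum_smul, smul_assoc, map_sum, map_smul,
      ← QuadraticMap.polarBilin_apply_apply, LinearMap.sum_apply, smul_eq_mul]
    refine Finset.sum_eq_zero fun j _ => mul_eq_zero_of_right _ ?_
    have := congrFun hc j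
    simp only [Matrix.vecMul, dotProduct, Matrix.of_apply, Pi.zero_apply, hN] at this
    rw [hk₀d]
    simpa [Finset.sum_smul, smul_assoc, map_sum, LinearMap.sum_apply] using this
  refine ⟨y⁻¹ * h * y, ?_⟩
  have hyi : (y⁻¹).1 v = v := by conv_lhs => rw [← hyv, qInv_apply_self]
  have hy'v : (y⁻¹ * h * y).1 v = v := by
    rw [qAut_mul_apply, qAut_mul_apply, hyv, show h.1 v = v by simpa using hhL 1, hyi]
  have hne : back (K := K) v (y⁻¹ * h * y) ≠ ⊤ := fun htop => by
    obtain ⟨k₁, hk₁⟩ := hall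
    obtain ⟨m, hm'⟩ := Submodule.mem_span_singleton.1
      (mem_back.1 (htop ▸ Submodule.mem_top : k₁ ∈ back (K := K) v (y⁻¹ * h * y)))
    rw [qAut_mul_apply, qAut_mul_apply] at hm'
    have hm'' : h.1 (y.1 (k₁ • v)) = y.1 (m • v) := by rw [hm', qApply_inv_self]
    rw [hhd, E.root_apply hv ht] at hm''
    obtain ⟨z, hz⟩ : ∃ z, z = y.1 (k₁ • v) := ⟨_, rfl⟩
    rw [← hz] at hm'' hk₁
    have hdiff : y.1 ((m - k₁) • v) = QuadraticMap.polar R z v • t -
        (QuadraticMap.polar R z t + R t * QuadraticMap.polar R z v) • v := by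
      rw [sub_smul, map_sub, ← hm'', ← hz]; abel
    have hmem : (m - k₁) ∈ back (K := K) v y := E.best_kernel hM hd hv hv0 hb ⟨k₁, hz ▸ hk₁⟩ (by
      rw [hdiff, QuadraticMap.polar_sub_left, QuadraticMap.polar_smul_left, QuadraticMap.polar_smul_left,
        polar_self_zero hv, QuadraticMap.polar_comm R t v, ht, smul_zero, smul_zero, sub_zero])
    have := mem_back.1 hmem
    rw [hdiff, Submodule.sub_mem_iff_left _ (Submodule.smul_mem _ _ (Submodule.mem_span_singleton_self v)),
      Submodule.smul_mem_iff _ hk₁] at this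
    exact ht0 (hYn t htY this)
  have hle : back (K := K) v y ≤ back (K := K) v (y⁻¹ * h * y) := fun w hw => by
    rw [mem_back, qAut_mul_apply, qAut_mul_apply, hW w hw, qInv_apply_self]
    exact Submodule.smul_mem _ w (Submodule.mem_span_singleton_self v)
  have heq := Submodule.eq_of_le_of_finrank_le hle (hb.2.2.2 _ (M.mul_mem (M.mul_mem (M.inv_mem hy) hhM) hy) hy'v hne)
  have hb' : Best (K := K) M v (y⁻¹ * h * y) :=
    ⟨M.mul_mem (M.mul_mem (M.inv_mem hy) hhM) hy, hy'v, hne, fun a h1 h2 h3 => heq ▸ hb.2.2.2 a h1 h2 h3⟩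
  refine ⟨hb', fun k => ?_⟩
  by_contra hk
  refine hk₀ (heq.symm ▸ E.best_kernel hM hd hv hv0 hb' ⟨k, hk⟩ (E.trace_ext fun l => ?_))
  rw [← smul_eq_mul, ← QuadraticMap.polar_smul_right, ← E.polar, qAut_mul_apply, qAut_mul_apply,
    ← qAut_polar y, qApply_inv_self]
  exact hperp l

/-- Some singular line carries all multiples of a transvection over the ground field. -/
theorem exists_line_transvection (hr : (Module.finrank F K).Prime) {v : V} {y₁ : qAut Q} (hy₁ : y₁ ∈ M)
    (hm : Moving R v y₁) :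
    ∃ φ : K →ₗ[F] F, φ 1 = 0 ∧ φ ≠ 0 ∧
      ∀ l : F, ∃ h ∈ M, ∀ k : K, h.1 (k • v) = (k + algebraMap F K (l * φ k)) • v := by
  classical
  obtain ⟨y, hb, hperp⟩ := E.exists_best_perp hM hd hy₁ hm
  obtain ⟨hv, hv0, -, -⟩ := hm
  have hy := hb.1
  have hyv := hb.2.1
  have hne := hb.2.2.1
  have hyi : (y⁻¹).1 v = v := by conv_lhs => rw [← hyv, qInv_apply_self]
  obtain ⟨k₀, hk₀⟩ : ∃ k₀, k₀ ∉ back (K := K) v y := by
    by_contra h
    push Not at h
    exact hne (eq_top_iff.2 fun k _ => h k)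
  have hne' : back (K := K) v y⁻¹ ≠ ⊤ := fun htop => hk₀ (by
    choose g hg using fun l : K => Submodule.mem_span_singleton.1
      (mem_back.1 (htop ▸ Submodule.mem_top : l ∈ back (K := K) v y⁻¹))
    have hinj : Function.Injective g := fun a b hab => smul_left_injective K hv0
      ((y⁻¹).1.injective ((hg a).symm.trans (hab ▸ hg b)))
    obtain ⟨l, hl⟩ := Finite.injective_iff_surjective.1 hinj k₀
    have := hg l
    rw [hl] at this
    rw [mem_back, this, qApply_inv_self]
    exact Submodule.smul_mem _ l (Submodule.mem_span_singleton_self v))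
  have h1W' : (1 : K) ∈ back (K := K) v y⁻¹ := by
    rw [mem_back, one_smul, hyi]; exact Submodule.mem_span_singleton_self v
  obtain ⟨t, hvt, hzt⟩ : ∃ t, QuadraticMap.polar R v t = 0 ∧ QuadraticMap.polar R (y.1 (k₀ • v)) t ≠ 0 :=
    exists_polar_sep R E.nd fun s hs => hk₀ (mem_back.2 (Submodule.mem_span_singleton.2 ⟨s, hs⟩))
  obtain ⟨ρ, hρ⟩ : ∃ ρ : K →ₗ[F] K, ∀ k, ρ k = QuadraticMap.polar R (y.1 (k • v)) t :=
    ⟨((QuadraticMap.polarBilin R).flip t).restrictScalars F ∘ₗ y.1.toLinearMap ∘ₗ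
      (LinearMap.toSpanSingleton K V v).restrictScalars F, fun k => by simp⟩
  have hρW : ∀ k ∈ back (K := K) v y, ρ k = 0 := fun k hk => by
    obtain ⟨l, hl⟩ := Submodule.mem_span_singleton.1 (mem_back.1 hk)
    rw [hρ, ← hl, QuadraticMap.polar_smul_left, hvt, smul_zero]
  have hvc : ∀ c : K, QuadraticMap.polar R v (c • t) = 0 := fun c => by
    rw [QuadraticMap.polar_smul_right, hvt, smul_zero]
  have hstep : ∀ c k : K, (E.lift (eich R v ((-c) • t))).1 (y.1 (k • v)) = y.1 (k • v) + (c * ρ k) • v := fun c k => by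
    rw [E.root_apply hv (hvc _), hperp, hρ, QuadraticMap.polar_smul_right, smul_eq_mul]
    module
  have hk₂ : ρ k₀ ≠ 0 := by rwa [hρ]
  have key : ∀ c : K, c * ρ k₀ ∈ back (K := K) v y⁻¹ → ∀ l, c * ρ l ∈ back (K := K) v y⁻¹ := by
    intro c hc l
    have hiff : ∀ l : K, (∃ m : K, (E.lift (eich R v ((-c) • t))).1 (y.1 (l • v)) = y.1 (m • v)) ↔
        c * ρ l ∈ back (K := K) v y⁻¹ := fun l => by
      rw [mem_back, Submodule.mem_span_singleton]
      simp only [hstep]
      constructor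
      · rintro ⟨m, hm⟩
        refine ⟨m - l, ?_⟩
        rw [show (c * ρ l) • v = y.1 (m • v) - y.1 (l • v) by rw [← hm]; abel, map_sub, qInv_apply_self,
          qInv_apply_self, sub_smul]
      · rintro ⟨m, hm⟩
        refine ⟨l + m, ?_⟩
        rw [add_smul, map_add, hm, qApply_inv_self]
    exact (hiff l).1 (E.best_key hM hv hb (hvc _) hk₀ ((hiff k₀).2 hc) l)
  have hmult : ∀ k, ∃ s : F, algebraMap F K s = ρ k / ρ k₀ := fun k => by
    refine mem_bot_of_stable hr h1W' hne' fun w hw => ?_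
    have e : w / ρ k₀ * ρ k₀ = w := div_mul_cancel₀ w hk₂
    have := key (w / ρ k₀) (by rwa [e]) k
    rwa [show ρ k / ρ k₀ * w = w / ρ k₀ * ρ k by ring]
  choose φ₀ hφ₀ using hmult
  have hinj := (algebraMap F K).injective
  let φ : K →ₗ[F] F :=
    { toFun := φ₀
      map_add' := fun a b => hinj (by rw [map_add, hφ₀, hφ₀, hφ₀, map_add, add_div])
      map_smul' := fun s a => hinj (by
        rw [RingHom.id_apply, smul_eq_mul, map_mul, hφ₀, hφ₀, map_smul, Algebra.smul_def, mul_div_assoc]) }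
  refine ⟨φ, hinj ?_, fun h0 => ?_, fun l => ?_⟩
  · change algebraMap F K (φ₀ 1) = _
    rw [hφ₀, hρW 1 (by rw [mem_back, one_smul, hyv]; exact Submodule.mem_span_singleton_self v), zero_div, map_zero]
  · have h := hφ₀ k₀
    rw [show φ₀ k₀ = φ k₀ from rfl, h0, LinearMap.zero_apply, map_zero, div_self hk₂] at h
    exact zero_ne_one h
  · refine ⟨y⁻¹ * E.lift (eich R v ((-(algebraMap F K l / ρ k₀)) • t)) * y,
      M.mul_mem (M.mul_mem (M.inv_mem hy) (hM _ (eich_mem R hv (hvc _)))) hy, fun k => ?_⟩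
    have e : algebraMap F K l / ρ k₀ * ρ k = algebraMap F K (l * φ k) := by
      change _ = algebraMap F K (l * φ₀ k)
      rw [map_mul, hφ₀]; ring
    rw [qAut_mul_apply, qAut_mul_apply, hstep, e, map_add, qInv_apply_self, add_smul, algebraMap_smul,
      map_smul, hyi]

end Over

end CfsgLib.Classical22.OrthField
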