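/-
Transvections of a singular line give all long root elements inside singular lines.
-/
import Cfsg.Agent.Lib.Classical22.OrthField.Line

set_option autoImplicit false
set_option linter.all false

namespace CfsgLib.Classical22.OrthField

open CfsgLib.Classical

variable {F : Type*} [Field F] {K : Type*} [Field K] [Algebra F K]
variable {V : Type*} [AddCommGroup V] [Module F V] [Module K V] [IsScalarTower F K V]
variable {Q : QuadraticForm F V} {R : QuadraticForm K V} {M : Subgroup (qAut Q)}

/-- The maps of the line through `v` occurring in `M` as elements trivial on and modulo its perp. -/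
def Long (R : QuadraticForm K V) (M : Subgroup (qAut Q)) (v : V) (X : K →ₗ[F] K) : Prop :=
  ∃ g ∈ M, ∀ x, g.1 x = x + X (QuadraticMap.polar R x v) • v

/-- The skew map of a long root element. -/
noncomputable def W (w : K) : K →ₗ[F] K :=
  (Algebra.trace F K).smulRight w - (Algebra.trace F K ∘ₗ LinearMap.mulRight F w).smulRight 1

omit V in
lemma W_apply (w a : K) : W (F := F) w a = Algebra.trace F K a • w - Algebra.trace F K (a * w) • (1 : K) := by
  simp [W]

variable [FiniteDimensional F K] [Fintype F] [Fintype K] [FiniteDimensional F V] [FiniteDimensional K V]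

namespace Over

variable (E : Over Q R)
include E

omit [FiniteDimensional F K] [Fintype F] [FiniteDimensional F V] in
lemma exists_polar_eq {v : V} (hv0 : v ≠ 0) (b : K) : ∃ x, QuadraticMap.polar R x v = b := by
  obtain ⟨f, hf⟩ : ∃ f, QuadraticMap.polar R f v ≠ 0 := by
    by_contra hc
    push Not at hc
    exact hv0 (E.nd v fun y => (QuadraticMap.polar_comm R v y).trans (hc y))
  exact ⟨(b / QuadraticMap.polar R f v) • f, by rw [QuadraticMap.polar_smul_left, smul_eq_mul, div_mul_cancel₀ _ hf]⟩

lemma long_skew {v : V} (hv : R v = 0) (hv0 : v ≠ 0) {X : K →ₗ[F] K} (hX : Long R M v X) (a b : K) :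
    Algebra.trace F K (X a * b) + Algebra.trace F K (a * X b) = 0 := by
  obtain ⟨g, -, hg⟩ := hX
  obtain ⟨x, hx⟩ := E.exists_polar_eq hv0 a
  obtain ⟨y, hy⟩ := E.exists_polar_eq hv0 b
  have h := qAut_polar g x y
  rw [hg, hg, QuadraticMap.polar_add_left, QuadraticMap.polar_add_right, QuadraticMap.polar_add_right, hx, hy] at h
  rw [E.polar (X a • v) y, E.polar x (X b • v), E.polar (X a • v) (X b • v), QuadraticMap.polar_smul_left,
    QuadraticMap.polar_smul_right, QuadraticMap.polar_smul_left, QuadraticMap.polar_smul_right, hx,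
    QuadraticMap.polar_comm R v y, hy, polar_self_zero hv] at h
  simp only [smul_eq_mul, mul_zero, map_zero, add_zero] at h
  rw [mul_comm a]
  linear_combination h

omit [FiniteDimensional F K] [Fintype F] [Fintype K] [FiniteDimensional F V] [FiniteDimensional K V] E in
lemma long_add {v : V} (hv : R v = 0) {X Y : K →ₗ[F] K} (hX : Long R M v X) (hY : Long R M v Y) :
    Long R M v (X + Y) := by
  obtain ⟨g, hg, he⟩ := hX
  obtain ⟨g', hg', he'⟩ := hY
  refine ⟨g * g', M.mul_mem hg hg', fun x => ?_⟩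
  rw [qAut_mul_apply, he, he', QuadraticMap.polar_add_left, QuadraticMap.polar_smul_left, polar_self_zero hv,
    smul_zero, add_zero, LinearMap.add_apply, add_smul]
  abel

omit [FiniteDimensional F K] [Fintype F] [Fintype K] [FiniteDimensional F V] [FiniteDimensional K V] E in
lemma long_neg {v : V} (hv : R v = 0) {X : K →ₗ[F] K} (hX : Long R M v X) : Long R M v (-X) := by
  obtain ⟨g, hg, he⟩ := hX
  refine ⟨g⁻¹, M.inv_mem hg, fun x => g.1.injective ?_⟩
  rw [qApply_inv_self, he, QuadraticMap.polar_add_left, QuadraticMap.polar_smul_left, polar_self_zero hv,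
    smul_zero, add_zero, LinearMap.neg_apply, neg_smul]
  abel

variable (hM : LinIn E M) (hd : 4 ≤ Module.finrank K V)
include hM hd

omit [FiniteDimensional F K] [Fintype F] [FiniteDimensional F V] in
lemma long_scale {v : V} (hv : R v = 0) (hv0 : v ≠ 0) {X : K →ₗ[F] K} (hX : Long R M v X) {c : K} (hc : c ≠ 0) :
    Long R M v (LinearMap.mulLeft F c ∘ₗ X ∘ₗ LinearMap.mulLeft F c) := by
  obtain ⟨h, hh, hhv⟩ := exists_move_eichGroup R E.nd hd hv (u' := c • v) (by rw [quad_smul, hv, mul_zero]) hv0
    (smul_ne_zero hc hv0)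
  obtain ⟨g, hg, he⟩ := hX
  refine ⟨E.lift h * g * (E.lift h)⁻¹, M.mul_mem (M.mul_mem (hM h hh) hg) (M.inv_mem (hM h hh)), fun x => ?_⟩
  obtain ⟨x', rfl⟩ : ∃ x', h.1 x' = x := ⟨(h⁻¹).1 x, qApply_inv_self R h x⟩
  have e : ((E.lift h)⁻¹).1 (h.1 x') = x' := by rw [← E.lift_apply, qInv_apply_self]
  have e1 : c * QuadraticMap.polar R (h.1 x') v = QuadraticMap.polar R x' v := by
    rw [← qAut_polar h x' v, hhv, QuadraticMap.polar_smul_right, smul_eq_mul]
  rw [qAut_mul_apply, qAut_mul_apply, e, he, lift_apply, map_add, map_smul, hhv, LinearMap.comp_apply,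
    LinearMap.comp_apply, LinearMap.mulLeft_apply, LinearMap.mulLeft_apply, e1, smul_smul, mul_comm]

/-- A transvection of a singular line gives a long root element over `F` inside it. -/
theorem exists_long_W (hr : (Module.finrank F K).Prime) {v : V} (hv : R v = 0) (hv0 : v ≠ 0) {φ : K →ₗ[F] F}
    (hφ1 : φ 1 = 0) (hφ : φ ≠ 0)
    (hh : ∀ l : F, ∃ h ∈ M, ∀ k : K, h.1 (k • v) = (k + algebraMap F K (l * φ k)) • v) :
    ∃ w : K, (∀ t : F, algebraMap F K t ≠ w) ∧ Long R M v (W (F := F) w) := by
  classical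
  have h2 := E.two'
  obtain ⟨h, hhM, hhe⟩ := hh 1
  simp only [one_mul] at hhe
  obtain ⟨A, hA⟩ : ∃ A : K → K, ∀ k, A k = k + algebraMap F K (φ k) := ⟨_, fun _ => rfl⟩
  have hφc : ∀ t : F, φ (algebraMap F K t) = 0 := fun t => by
    rw [← mul_one (algebraMap F K t), ← Algebra.smul_def, map_smul, hφ1, smul_zero]
  have hhA : ∀ k : K, h.1 (k • v) = A k • v := fun k => by rw [hhe, hA]
  have hA0 : A 0 = 0 := by rw [hA, map_zero, map_zero, add_zero]
  have hAinv : ∀ k : K, (h⁻¹).1 (k • v) = (k - algebraMap F K (φ k)) • v := fun k => h.1.injective (by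
    rw [qApply_inv_self, hhA, hA, map_sub, hφc, sub_zero, sub_add_cancel])
  obtain ⟨T, hT⟩ : ∃ T : K →ₗ[F] F, T = Algebra.trace F K := ⟨_, rfl⟩
  obtain ⟨ε, hεφ⟩ : ∃ ε : K, ∀ k, T (ε * k) = φ k := by
    obtain ⟨ε, hε⟩ := ((Algebra.traceForm F K).toDual (traceForm_nondegenerate F K)).surjective φ
    exact ⟨ε, fun k => by rw [hT, ← Algebra.traceForm_apply,
      ← LinearMap.BilinForm.toDual_def (b := traceForm_nondegenerate F K), hε]⟩
  have hTε : T ε = 0 := by rw [← mul_one ε, hεφ, hφ1]
  have hb : ∀ x, QuadraticMap.polar R ((h⁻¹).1 x) v =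
      QuadraticMap.polar R x v + T (QuadraticMap.polar R x v) • ε := fun x => by
    refine sub_eq_zero.1 (E.trace_ext fun k => ?_)
    have h1 := qAut_polar h ((h⁻¹).1 x) (k • v)
    rw [qApply_inv_self, hhe, E.polar, E.polar, QuadraticMap.polar_smul_right, QuadraticMap.polar_smul_right,
      smul_eq_mul, smul_eq_mul, add_mul, map_add, ← Algebra.smul_def, map_smul, smul_eq_mul, ← hT] at h1
    rw [← hT, mul_sub, map_sub, mul_add, map_add, mul_smul_comm, map_smul, smul_eq_mul, mul_comm k ε, hεφ, ← h1]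
    ring
  have hperp' : ∀ x, QuadraticMap.polar R x v = 0 → QuadraticMap.polar R ((h⁻¹).1 x) v = 0 := fun x hx => by
    rw [hb, hx, map_zero, zero_smul, add_zero]
  have hperp : ∀ y, QuadraticMap.polar R y v = 0 → QuadraticMap.polar R (h.1 y) v = 0 := fun y hy => by
    refine E.trace_ext fun k => ?_
    rw [← smul_eq_mul, ← QuadraticMap.polar_smul_right, ← E.polar, ← qApply_inv_self Q h (k • v), qAut_polar,
      hAinv, E.polar, QuadraticMap.polar_smul_right, hy, smul_zero, map_zero]
  -- a non-zero skew map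
  obtain ⟨X, hX, d₁, hd₁⟩ : ∃ X, Long R M v X ∧ ∃ d, X d ≠ 0 := by
    by_contra hc
    push Not at hc
    have key : ∀ s t x, QuadraticMap.polar R v s = 0 → QuadraticMap.polar R v t = 0 →
        A (QuadraticMap.polar R ((h⁻¹).1 (QuadraticMap.polar R x v • t)) s) =
          QuadraticMap.polar R (h.1 (QuadraticMap.polar R ((h⁻¹).1 x) v • s)) t := by
      intro s t x hs ht
      obtain ⟨u, hu⟩ : ∃ u, u = E.lift (eich R v t) := ⟨_, rfl⟩
      obtain ⟨u', hu'⟩ : ∃ u', u' = h * E.lift (eich R v s) * h⁻¹ := ⟨_, rfl⟩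
      have hum : u ∈ M := hu ▸ hM _ (eich_mem R hv ht)
      have hu'm : u' ∈ M := hu' ▸ M.mul_mem (M.mul_mem hhM (hM _ (eich_mem R hv hs))) (M.inv_mem hhM)
      have hue : ∀ x, u.1 x = x + QuadraticMap.polar R x v • t -
          (QuadraticMap.polar R x t + R t * QuadraticMap.polar R x v) • v := fun x => by rw [hu, E.root_apply hv ht]
      have hu'e : ∀ x, u'.1 x = x + h.1 (QuadraticMap.polar R ((h⁻¹).1 x) v • s) -
          A (QuadraticMap.polar R ((h⁻¹).1 x) s + R s * QuadraticMap.polar R ((h⁻¹).1 x) v) • v := fun x => by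
        rw [hu', qAut_mul_apply, qAut_mul_apply, E.root_apply hv hs, map_sub, map_add, qApply_inv_self, hhA]
      have hHv : ∀ x, QuadraticMap.polar R (h.1 (QuadraticMap.polar R ((h⁻¹).1 x) v • s)) v = 0 := fun x =>
        hperp _ (by rw [QuadraticMap.polar_smul_left, QuadraticMap.polar_comm R s v, hs, smul_zero])
      have htv : QuadraticMap.polar R t v = 0 := (QuadraticMap.polar_comm R t v).trans ht
      have hu'v : ∀ x, QuadraticMap.polar R (u'.1 x) v = QuadraticMap.polar R x v := fun x => by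
        rw [hu'e, QuadraticMap.polar_sub_left, QuadraticMap.polar_add_left, hHv, QuadraticMap.polar_smul_left,
          polar_self_zero hv, smul_zero, add_zero, sub_zero]
      have huv : ∀ x, QuadraticMap.polar R (u.1 x) v = QuadraticMap.polar R x v := fun x => by
        rw [hue, QuadraticMap.polar_sub_left, QuadraticMap.polar_add_left, QuadraticMap.polar_smul_left,
          QuadraticMap.polar_smul_left, polar_self_zero hv, htv, smul_zero, smul_zero, add_zero, sub_zero]
      have hib : ∀ x, QuadraticMap.polar R ((h⁻¹).1 (u.1 x)) v = QuadraticMap.polar R ((h⁻¹).1 x) v := fun x => by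
        rw [hb, huv, ← hb]
      have hG : ∀ x, u.1 (u'.1 x) = u'.1 (u.1 x) +
          (A (QuadraticMap.polar R ((h⁻¹).1 (QuadraticMap.polar R x v • t)) s) -
            QuadraticMap.polar R (h.1 (QuadraticMap.polar R ((h⁻¹).1 x) v • s)) t) • v := by
        intro x
        have e1 : QuadraticMap.polar R (u'.1 x) t = QuadraticMap.polar R x t +
            QuadraticMap.polar R (h.1 (QuadraticMap.polar R ((h⁻¹).1 x) v • s)) t := by
          rw [hu'e, QuadraticMap.polar_sub_left, QuadraticMap.polar_add_left, QuadraticMap.polar_smul_left,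
            ht, smul_zero, sub_zero]
        have e2 : QuadraticMap.polar R ((h⁻¹).1 (u.1 x)) s = QuadraticMap.polar R ((h⁻¹).1 x) s +
            QuadraticMap.polar R ((h⁻¹).1 (QuadraticMap.polar R x v • t)) s := by
          rw [hue, map_sub, map_add, hAinv, QuadraticMap.polar_sub_left, QuadraticMap.polar_add_left,
            QuadraticMap.polar_smul_left, hs, smul_zero, sub_zero]
        rw [hue (u'.1 x), hu'v, e1, hu'e (u.1 x), hib, e2, hu'e x, hue x,
          show A (QuadraticMap.polar R ((h⁻¹).1 x) s + QuadraticMap.polar R ((h⁻¹).1 (QuadraticMap.polar R x v • t)) s +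
            R s * QuadraticMap.polar R ((h⁻¹).1 x) v) =
            A (QuadraticMap.polar R ((h⁻¹).1 x) s + R s * QuadraticMap.polar R ((h⁻¹).1 x) v) +
            A (QuadraticMap.polar R ((h⁻¹).1 (QuadraticMap.polar R x v • t)) s) by
              simp only [hA, map_add]; ring]
        simp only [add_smul, sub_smul]
        abel
      obtain ⟨X, hX⟩ : ∃ X : K →ₗ[F] K, ∀ b, X b = A (QuadraticMap.polar R ((h⁻¹).1 (b • t)) s) -
          QuadraticMap.polar R (h.1 ((b + T b • ε) • s)) t := by
        refine ⟨(LinearMap.id + Algebra.linearMap F K ∘ₗ φ) ∘ₗ ((QuadraticMap.polarBilin R).flip s).restrictScalars F ∘ₗ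
          (h⁻¹).1.toLinearMap ∘ₗ (LinearMap.toSpanSingleton K V t).restrictScalars F -
          ((QuadraticMap.polarBilin R).flip t).restrictScalars F ∘ₗ h.1.toLinearMap ∘ₗ
            (LinearMap.toSpanSingleton K V s).restrictScalars F ∘ₗ (LinearMap.id + T.smulRight ε), fun b => ?_⟩
        simp [hA]
      have hlong : Long R M v X := by
        refine ⟨u * u' * (u' * u)⁻¹, M.mul_mem (M.mul_mem hum hu'm) (M.inv_mem (M.mul_mem hu'm hum)), fun x => ?_⟩
        obtain ⟨z, rfl⟩ : ∃ z, (u' * u).1 z = x := ⟨((u' * u)⁻¹).1 x, qApply_inv_self Q _ x⟩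
        rw [qAut_mul_apply, qInv_apply_self, qAut_mul_apply, qAut_mul_apply, hG, hu'v, huv, hX, hb]
      have := hc X hlong (QuadraticMap.polar R x v)
      rw [hX, sub_eq_zero, ← hb] at this
      exact this
    obtain ⟨x₁, hx₁⟩ := E.exists_polar_eq hv0 1
    obtain ⟨x₀, hx₀v, hx₀⟩ : ∃ x₀, QuadraticMap.polar R v x₀ = 0 ∧ x₀ ∉ Submodule.span K {v} := by
      obtain ⟨x₀, h1, h2⟩ : ∃ x₀ ∈ qPerp R (Submodule.span K {v}), x₀ ∉ Submodule.span K {v} :=
        SetLike.not_le_iff_exists.1 fun hle => by
          have h1 := Submodule.finrank_mono hle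
          rw [finrank_qPerp R E.nd, finrank_span_singleton hv0] at h1
          omega
      exact ⟨x₀, (mem_qPerp_singleton R).1 h1, h2⟩
    obtain ⟨s₀, hs₀v, hs₀⟩ := exists_polar_sep R E.nd (a := x₀) (b := v)
      fun s hs => hx₀ (Submodule.mem_span_singleton.2 ⟨s, hs⟩)
    obtain ⟨s, hs⟩ : ∃ s, s = (QuadraticMap.polar R x₀ s₀)⁻¹ • s₀ := ⟨_, rfl⟩
    have hsv : QuadraticMap.polar R v s = 0 := by rw [hs, QuadraticMap.polar_smul_right, hs₀v, smul_zero]
    have hsx : QuadraticMap.polar R x₀ s = 1 := by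
      rw [hs, QuadraticMap.polar_smul_right, smul_eq_mul, inv_mul_cancel₀ hs₀]
    obtain ⟨x, hx⟩ : ∃ x, x = h.1 x₀ := ⟨_, rfl⟩
    have hxv : QuadraticMap.polar R v x = 0 := by
      rw [QuadraticMap.polar_comm, hx]; exact hperp _ ((QuadraticMap.polar_comm R x₀ v).trans hx₀v)
    have hlin : ∀ (c l : K), A (QuadraticMap.polar R ((h⁻¹).1 (c • x)) (l • s)) =
        c * A (QuadraticMap.polar R ((h⁻¹).1 x) (l • s)) := by
      intro c l
      have hsl : QuadraticMap.polar R v (l • s) = 0 := by rw [QuadraticMap.polar_smul_right, hsv, smul_zero]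
      have k1 := key (l • s) (c • x) x₁ hsl (by rw [QuadraticMap.polar_smul_right, hxv, smul_zero])
      have k2 := key (l • s) x x₁ hsl hxv
      rw [hx₁, one_smul] at k1 k2
      rw [k1, k2, QuadraticMap.polar_smul_right, smul_eq_mul]
    have hG0 : QuadraticMap.polar R ((h⁻¹).1 x) s = 1 := by rw [hx, qInv_apply_self, hsx]
    have hinjA : Function.Injective A := fun a b hab => by
      have := congrArg (fun k => k - algebraMap F K (φ k)) hab
      simpa [hA, hφc] using this
    have hmult : ∀ e l : K, A (l * e) = A e * A l := fun e l => by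
      have h3 := hlin (A e) 1
      rw [one_smul, hG0, show A 1 = 1 by rw [hA, hφ1, map_zero, add_zero], mul_one] at h3
      have h4 := hlin (A e) l
      rw [QuadraticMap.polar_smul_right, QuadraticMap.polar_smul_right, hinjA h3, hG0, smul_eq_mul, smul_eq_mul,
        mul_one] at h4
      exact h4
    obtain ⟨l₀, hl₀⟩ : ∃ l, φ l ≠ 0 := by
      by_contra hc'
      push Not at hc'
      exact hφ (LinearMap.ext fun k => by simp [hc'])
    obtain ⟨l, hl⟩ : ∃ l, φ l = 1 := ⟨(φ l₀)⁻¹ • l₀, by rw [map_smul, smul_eq_mul, inv_mul_cancel₀ hl₀]⟩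
    have h5 := hmult l l
    rw [hA, hA, hl, map_one] at h5
    have h6 : l = algebraMap F K ((φ (l * l) - 1) / 2) := by
      rw [map_div₀, map_sub, map_one, map_ofNat, eq_div_iff h2]
      linear_combination -h5
    rw [h6, hφc] at hl
    exact zero_ne_one hl
  -- the rank two element
  have hskew := fun {Y : K →ₗ[F] K} (hY : Long R M v Y) (a b : K) => hT ▸ E.long_skew hv hv0 hY a b
  have hτ : ∀ Y : K →ₗ[F] K, Long R M v Y → Long R M v (W (F := F) (Y ε)) := by
    intro Y hY
    obtain ⟨g, hg, hge⟩ := hY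
    have hY' : Long R M v ((LinearMap.id + Algebra.linearMap F K ∘ₗ φ) ∘ₗ Y ∘ₗ (LinearMap.id + T.smulRight ε)) :=
      ⟨h * g * h⁻¹, M.mul_mem (M.mul_mem hhM hg) (M.inv_mem hhM), fun x => by
        rw [qAut_mul_apply, qAut_mul_apply, hge, map_add, qApply_inv_self, hhA, hb, hA]
        simp⟩
    have h3 := long_add hv hY' (long_neg hv ⟨g, hg, hge⟩)
    refine (?_ : _ = W (F := F) (Y ε)) ▸ h3
    refine LinearMap.ext fun a => ?_
    have e1 : φ (Y a) = -T (a * Y ε) := by
      rw [← hεφ, mul_comm]; linear_combination hskew ⟨g, hg, hge⟩ a ε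
    have e2 : φ (Y ε) = 0 := by
      have h4 := hskew ⟨g, hg, hge⟩ ε ε
      rw [mul_comm (Y ε), ← two_mul, hεφ] at h4
      exact (mul_eq_zero.1 h4).resolve_left E.two
    simp only [LinearMap.add_apply, LinearMap.neg_apply, LinearMap.comp_apply, LinearMap.id_apply,
      LinearMap.smulRight_apply, W_apply, map_add, map_smul, Algebra.linearMap_apply, e1, e2, ← hT,
      smul_eq_mul, mul_zero, add_zero]
    simp only [Algebra.smul_def, map_neg, map_zero, mul_one, mul_zero, add_zero]
    ring
  by_cases hr2 : Module.finrank F K = 2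
  · have hεF : ∀ t : F, algebraMap F K t ≠ ε := fun t ht => hφ (by
      have : (2 : F) * t = 0 := by
        rw [← ht, hT, Algebra.trace_algebraMap, hr2, nsmul_eq_mul] at hTε
        simpa using hTε
      have ht0 : t = 0 := (mul_eq_zero.1 this).resolve_left E.two
      exact LinearMap.ext fun k => by rw [← hεφ, ← ht, ht0, map_zero, zero_mul, map_zero]; rfl)
    have hε0 : ε ≠ 0 := fun e => hεF 0 (by rw [e, map_zero])
    have hker : ∀ z, T z = 0 → ∃ c : F, c • ε = z := by
      intro z hz
      have h1 := LinearMap.finrank_range_add_finrank_ker T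
      rw [hT, LinearMap.range_eq_top.2 (Algebra.trace_surjective F K), finrank_top, Module.finrank_self, ← hT, hr2] at h1
      have hle : Submodule.span F {ε} ≤ LinearMap.ker T :=
        (Submodule.span_singleton_le_iff_mem _ _).2 (LinearMap.mem_ker.2 hTε)
      have heq := Submodule.eq_of_le_of_finrank_le hle (by rw [finrank_span_singleton hε0]; omega)
      exact Submodule.mem_span_singleton.1 (heq ▸ LinearMap.mem_ker.2 hz)
    have hX1 : T (X 1) = 0 := by
      have h4 := hskew hX 1 1
      rw [mul_one, one_mul, ← two_mul] at h4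
      exact (mul_eq_zero.1 h4).resolve_left E.two
    obtain ⟨μ, hμ⟩ := hker _ hX1
    have hW1 : ∀ z, T z = 0 → W (F := F) z 1 = (2 : F) • z := fun z hz => by
      rw [W_apply, ← hT, one_mul, hz, zero_smul, sub_zero, hT,
        show Algebra.trace F K (1 : K) = (2 : F) by
          rw [← map_one (algebraMap F K), Algebra.trace_algebraMap, hr2, nsmul_eq_mul]; simp]
    obtain ⟨D, hD⟩ : ∃ D : K →ₗ[F] K, D = X - W (F := F) ((μ / 2) • ε) := ⟨_, rfl⟩
    have hD1 : D 1 = 0 := by
      rw [hD, LinearMap.sub_apply, hW1 _ (by rw [map_smul, hTε, smul_zero]), smul_smul,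
        mul_div_cancel₀ _ E.two, hμ, sub_self]
    have hWs : ∀ z a b, T (W (F := F) z a * b) + T (a * W (F := F) z b) = 0 := fun z a b => by
      simp only [W_apply, ← hT, sub_mul, mul_sub, smul_mul_assoc, mul_smul_comm, map_sub, map_smul, smul_eq_mul,
        one_mul, mul_one, mul_comm z b]
      ring
    have hDs : ∀ a b, T (D a * b) + T (a * D b) = 0 := fun a b => by
      rw [hD, LinearMap.sub_apply, LinearMap.sub_apply, sub_mul, mul_sub, map_sub, map_sub]
      linear_combination hskew hX a b - hWs ((μ / 2) • ε) a b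
    have hDt : ∀ a, T (D a) = 0 := fun a => by
      have h4 := hDs a 1
      rwa [hD1, mul_zero, map_zero, add_zero, mul_one] at h4
    have hspan : ∀ a : K, ∃ p q : F, a = p • (1 : K) + q • ε := fun a => by
      obtain ⟨q, hq⟩ := hker (a - (T a / 2) • (1 : K)) (by
        rw [map_sub, map_smul, hT, show Algebra.trace F K (1 : K) = (2 : F) by
          rw [← map_one (algebraMap F K), Algebra.trace_algebraMap, hr2, nsmul_eq_mul]; simp,
          smul_eq_mul, div_mul_cancel₀ _ E.two, sub_self])
      exact ⟨T a / 2, q, by rw [hq]; abel⟩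
    have hεε : T (ε * ε) ≠ 0 := fun e => hε0 (E.trace_ext fun k => by
      obtain ⟨p, q, rfl⟩ := hspan k
      rw [← hT, add_mul, map_add, smul_mul_assoc, smul_mul_assoc, map_smul, map_smul, one_mul, hTε, e, smul_zero,
        smul_zero, add_zero])
    have hDε : D ε = 0 := by
      obtain ⟨c, hc⟩ := hker _ (hDt ε)
      have h4 := hDs ε ε
      rw [← hc, smul_mul_assoc, mul_smul_comm, map_smul, smul_eq_mul, ← two_mul, mul_eq_zero, mul_eq_zero] at h4
      rw [← hc, (h4.resolve_left E.two).resolve_right hεε, zero_smul]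
    have hXW : X = W (F := F) ((μ / 2) • ε) := sub_eq_zero.1 (hD ▸ LinearMap.ext fun a => by
      obtain ⟨p, q, rfl⟩ := hspan a
      rw [map_add, map_smul, map_smul, hD1, hDε, smul_zero, smul_zero, add_zero, LinearMap.zero_apply])
    refine ⟨(μ / 2) • ε, fun t ht => ?_, hXW ▸ hX⟩
    by_cases hμ0 : μ / 2 = 0
    · exact hd₁ (by rw [hXW, hμ0, zero_smul, W_apply]; simp)
    · exact hεF ((μ / 2)⁻¹ * t) (by rw [map_mul, ht, ← Algebra.smul_def, inv_smul_smul₀ hμ0])
  by_contra hc
  push Not at hc
  have hF : ∀ c : K, ∃ t : F, algebraMap F K t = c * X (c * ε) := fun c => by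
    by_cases hc0 : c = 0
    · exact ⟨0, by rw [hc0, zero_mul, map_zero]⟩
    by_contra hcon
    push Not at hcon
    exact hc _ hcon (by simpa using hτ _ (E.long_scale hM hd hv hv0 hX hc0))
  have hε0 : ε ≠ 0 := fun e => hφ (LinearMap.ext fun k => by rw [← hεφ, e, zero_mul, map_zero]; rfl)
  have hlam : ∀ d, ∃ t : F, algebraMap F K t * ε = d * X d := fun d => by
    obtain ⟨t, ht⟩ := hF (d / ε)
    exact ⟨t, by rw [ht, div_mul_cancel₀ _ hε0]; field_simp⟩
  obtain ⟨k, hk⟩ : ∃ k : K, ∀ t : F, algebraMap F K t ≠ k := by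
    by_contra hcon
    push Not at hcon
    have h1 := LinearMap.finrank_le_finrank_of_injective (R := F) (M := K) (M' := F)
      (f := (LinearEquiv.ofBijective (Algebra.linearMap F K) ⟨(algebraMap F K).injective, hcon⟩).symm.toLinearMap)
      (LinearEquiv.injective _)
    rw [Module.finrank_self] at h1
    have := hr.two_le
    omega
  have hd10 : d₁ ≠ 0 := fun e => hd₁ (by rw [e, map_zero])
  have hk0 : k ≠ 0 := fun e => hk 0 (by rw [e, map_zero])
  have hk1 : 1 + k ≠ 0 := fun e => hk (-1) (by rw [map_neg, map_one]; linear_combination -e)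
  obtain ⟨a, ha⟩ := hlam d₁
  obtain ⟨b, hb'⟩ := hlam (k * d₁)
  obtain ⟨c, hc'⟩ := hlam ((1 + k) * d₁)
  rw [show X ((1 + k) * d₁) = X d₁ + X (k * d₁) by rw [add_mul, one_mul, map_add]] at hc'
  have heq : (algebraMap F K a * k + algebraMap F K b) * (1 + k) = algebraMap F K c * k :=
    mul_right_cancel₀ hε0 (by linear_combination k * (1 + k) * ha + (1 + k) * hb' - k * hc')
  have ha0 : algebraMap F K a ≠ 0 := fun e => hd₁ (by
    rw [e, zero_mul, eq_comm, mul_eq_zero] at ha
    exact ha.resolve_left hd10)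
  obtain ⟨P, hP⟩ : ∃ P : Submodule F K, P = Submodule.span F ({1, k} : Set K) := ⟨_, rfl⟩
  have h1P : (1 : K) ∈ P := hP ▸ Submodule.subset_span (by simp)
  have hkP : k ∈ P := hP ▸ Submodule.subset_span (by simp)
  have hP2 : Module.finrank F P ≤ 2 := by
    classical
    rw [hP, show ({1, k} : Set K) = (({1, k} : Finset K) : Set K) by simp]
    exact (finrank_span_finset_le_card _).trans Finset.card_le_two
  have hkk : k * k ∈ P := by
    rw [show k * k = (((c - a - b) / a) • k + (-(b / a)) • (1 : K)) by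
      rw [Algebra.smul_def, Algebra.smul_def, map_neg, map_div₀, map_div₀, map_sub, map_sub]
      field_simp
      linear_combination heq]
    exact P.add_mem (P.smul_mem _ hkP) (P.smul_mem _ h1P)
  have hstab : ∀ p ∈ P, k * p ∈ P := by
    intro p hp
    rw [hP] at hp
    obtain ⟨x, y, rfl⟩ := Submodule.mem_span_pair.1 hp
    rw [mul_add, mul_smul_comm, mul_smul_comm, mul_one]
    exact P.add_mem (P.smul_mem _ hkP) (P.smul_mem _ hkk)
  obtain ⟨t, ht⟩ := mem_bot_of_stable hr h1P (fun e => by
    rw [e, finrank_top] at hP2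
    have := hr.two_le
    omega) hstab
  exact hk t ht

/-- A transvection of a singular line gives every long root element inside a singular line. -/
theorem eich_line_mem (hr : (Module.finrank F K).Prime) {v : V} (hv : R v = 0) (hv0 : v ≠ 0) {φ : K →ₗ[F] F}
    (hφ1 : φ 1 = 0) (hφ : φ ≠ 0)
    (hh : ∀ l : F, ∃ h ∈ M, ∀ k : K, h.1 (k • v) = (k + algebraMap F K (l * φ k)) • v)
    {v' : V} (hv' : R v' = 0) (hv0' : v' ≠ 0) (k : K) : eich Q v' (k • v') ∈ M := by
  obtain ⟨w₀, hw₀, hW₀⟩ := E.exists_long_W hM hd hr hv hv0 hφ1 hφ hh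
  have h2 := E.two
  have hadd : ∀ {a b}, Long R M v (W (F := F) a) → Long R M v (W (F := F) b) → Long R M v (W (F := F) (a + b)) := by
    intro a b ha hb
    have h := long_add hv ha hb
    rwa [show W (F := F) a + W (F := F) b = W (F := F) (a + b) from LinearMap.ext fun x => by
      simp only [LinearMap.add_apply, W_apply, mul_add, map_add, smul_add, add_smul]; abel] at h
  have hneg : ∀ {a}, Long R M v (W (F := F) a) → Long R M v (W (F := F) (-a)) := by
    intro a ha
    have h := long_neg hv ha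
    rwa [show -W (F := F) a = W (F := F) (-a) from LinearMap.ext fun x => by
      simp only [LinearMap.neg_apply, W_apply, mul_neg, map_neg, smul_neg, neg_smul]; abel] at h
  have h0 : Long R M v (W (F := F) 0) :=
    ⟨1, M.one_mem, fun x => by simp [W_apply]⟩
  have hsq : ∀ {a} (s : F), Long R M v (W (F := F) a) → Long R M v (W (F := F) ((s * s) • a)) := by
    intro a s ha
    by_cases hs : s = 0
    · rw [hs, zero_mul, zero_smul]; exact h0
    have h := E.long_scale hM hd hv hv0 ha (c := algebraMap F K s) (by simpa using hs)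
    rwa [show LinearMap.mulLeft F (algebraMap F K s) ∘ₗ W (F := F) a ∘ₗ LinearMap.mulLeft F (algebraMap F K s) =
        W (F := F) ((s * s) • a) from LinearMap.ext fun x => by
      simp only [LinearMap.comp_apply, LinearMap.mulLeft_apply, W_apply, ← Algebra.smul_def, smul_mul_assoc,
        mul_smul_comm, map_smul, smul_eq_mul, smul_sub, smul_smul]
      congr 1 <;> congr 1 <;> ring] at h
  let U : Submodule F K :=
    { carrier := {w | Long R M v (W (F := F) w)}
      add_mem' := fun ha hb => hadd ha hb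
      zero_mem' := h0
      smul_mem' := fun s a ha => by
        show Long R M v (W (F := F) (s • a))
        rw [show s • a = ((((s + 1) / 2) * ((s + 1) / 2)) • a) + -((((s - 1) / 2) * ((s - 1) / 2)) • a) by
          rw [← neg_smul, ← add_smul]; congr 1; field_simp; ring]
        exact hadd (hsq _ ha) (hneg (hsq _ ha)) }
  have h1U : (1 : K) ∈ U := by
    show Long R M v (W (F := F) 1)
    rw [show W (F := F) (1 : K) = W (F := F) (0 : K) from LinearMap.ext fun x => by simp [W_apply]]
    exact h0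
  have hinv : ∀ u ∈ U, u⁻¹ ∈ U := by
    intro u hu
    by_cases hu0 : u = 0
    · rw [hu0, _root_.inv_zero]; exact U.zero_mem
    have h := E.long_scale hM hd hv hv0 hu (c := u⁻¹) (inv_ne_zero hu0)
    rw [show LinearMap.mulLeft F u⁻¹ ∘ₗ W (F := F) u ∘ₗ LinearMap.mulLeft F u⁻¹ = W (F := F) (-u⁻¹) from
      LinearMap.ext fun x => by
        simp only [LinearMap.comp_apply, LinearMap.mulLeft_apply, W_apply, mul_sub, mul_smul_comm, mul_one,
          inv_mul_cancel₀ hu0, show u⁻¹ * x * u = x by field_simp, mul_neg, map_neg, smul_neg, neg_smul,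
          mul_comm x u⁻¹]
        abel] at h
    have h' := hneg h
    rwa [neg_neg] at h'
  have hU := eq_top_of_inv hr E.two' h1U hinv (show w₀ ∈ U from hW₀) hw₀
  have hall : ∀ w : K, eich Q v (w • v) ∈ M := fun w => by
    obtain ⟨g, hg, hge⟩ : Long R M v (W (F := F) w) := (hU ▸ Submodule.mem_top : w ∈ U)
    have hQv : Q v = 0 := by simpa using E.sing hv 1
    have hp : QuadraticMap.polar Q v (w • v) = 0 := E.polar_zero (by
      rw [QuadraticMap.polar_smul_right, polar_self_zero hv, smul_zero])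
    rwa [show eich Q v (w • v) = g from qAut_ext fun x => by
      rw [eich_apply Q hQv hp, hge, W_apply, E.sing hv w, zero_mul, add_zero, E.polar, E.polar,
        QuadraticMap.polar_smul_right, smul_eq_mul, sub_smul, smul_assoc, smul_assoc, one_smul, mul_comm w]
      abel]
  obtain ⟨h, hh', hhv⟩ := exists_move_eichGroup R E.nd hd hv hv' hv0 hv0'
  have hQv : Q v = 0 := by simpa using E.sing hv 1
  have hp : QuadraticMap.polar Q v (k • v) = 0 := E.polar_zero (by
    rw [QuadraticMap.polar_smul_right, polar_self_zero hv, smul_zero])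
  have e := eich_conj Q (E.lift h) hQv hp
  rw [lift_apply, lift_apply, map_smul h.1, hhv] at e
  exact e ▸ M.mul_mem (M.mul_mem (hM h hh') (hall k)) (M.inv_mem (hM h hh'))

end Over

end CfsgLib.Classical22.OrthField
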