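/-
All long root elements inside singular lines give every Eichler transformation.
-/
import Cfsg.Agent.Lib.Classical22.OrthField.Root

set_option autoImplicit false
set_option linter.all false

namespace CfsgLib.Classical22.OrthField

open CfsgLib.Classical

variable {F : Type*} [Field F] {K : Type*} [Field K] [Algebra F K]
variable {V : Type*} [AddCommGroup V] [Module F V] [Module K V] [IsScalarTower F K V]
variable {Q : QuadraticForm F V} {R : QuadraticForm K V} {M : Subgroup (qAut Q)}

/-- The vectors giving Eichler transformations at `v` inside `M`. -/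
def cen (Q : QuadraticForm F V) (M : Subgroup (qAut Q)) {v : V} (hv : Q v = 0) : AddSubgroup V where
  carrier := {w | QuadraticMap.polar Q v w = 0 ∧ eich Q v w ∈ M}
  add_mem' := fun {a b} ha hb => ⟨by rw [QuadraticMap.polar_add_right, ha.1, hb.1, add_zero],
    by rw [← eich_mul Q hv ha.1 hb.1]; exact M.mul_mem ha.2 hb.2⟩
  zero_mem' := ⟨QuadraticMap.polar_zero_right Q v, by rw [eich_zero Q hv]; exact M.one_mem⟩
  neg_mem' := fun {a} ha => ⟨by rw [QuadraticMap.polar_neg_right, ha.1, neg_zero],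
    by rw [← eich_inv Q hv ha.1]; exact M.inv_mem ha.2⟩

omit [Module K V] [IsScalarTower F K V] in
lemma cen_move {v w : V} {hv : Q v = 0} (hw : w ∈ cen Q M hv) {g : qAut Q} (hg : g ∈ M) (hgv : g.1 v = v) :
    g.1 w - w ∈ cen Q M hv := by
  refine (cen Q M hv).sub_mem ⟨?_, ?_⟩ hw
  · rw [← hgv, qAut_polar, hw.1]
  · have e := eich_conj Q g hv hw.1
    rw [hgv] at e
    exact e ▸ M.mul_mem (M.mul_mem hg hw.2) (M.inv_mem hg)

variable [FiniteDimensional F K] [Fintype F] [Fintype K] [FiniteDimensional F V] [FiniteDimensional K V]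

namespace Over

variable (E : Over Q R) (hM : LinIn E M) (hd : 4 ≤ Module.finrank K V)
include E

omit [FiniteDimensional F K] [Fintype K] [Fintype F] [FiniteDimensional F V] [FiniteDimensional K V] in
lemma quad_zero {v : V} (hv : R v = 0) : Q v = 0 := by simpa using E.sing hv 1

include hd in
lemma exists_partner_sing {v : V} (hv0 : v ≠ 0) : ∃ f, R f = 0 ∧ QuadraticMap.polar R f v = 1 := by
  obtain ⟨u, hu, huv⟩ := exists_singular_polar R E.nd (by omega) hv0
  exact ⟨(QuadraticMap.polar R u v)⁻¹ • u, by rw [quad_smul, hu, mul_zero],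
    by rw [QuadraticMap.polar_smul_left, smul_eq_mul, inv_mul_cancel₀ huv]⟩

include hM

omit [FiniteDimensional F K] [Fintype K] [Fintype F] [FiniteDimensional F V] [FiniteDimensional K V] hd in
/-- One element off the perp brings in the whole perp. -/
lemma perp_of_off {v : V} (hv : R v = 0) (hL : ∀ k : K, k • v ∈ cen Q M (E.quad_zero hv)) {w : V}
    (hw : w ∈ cen Q M (E.quad_zero hv)) (hwv : QuadraticMap.polar R w v ≠ 0) {t : V}
    (ht : QuadraticMap.polar R v t = 0) : t ∈ cen Q M (E.quad_zero hv) := by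
  obtain ⟨s, hs⟩ : ∃ s, s = (QuadraticMap.polar R w v)⁻¹ • t := ⟨_, rfl⟩
  have hvs : QuadraticMap.polar R v s = 0 := by rw [hs, QuadraticMap.polar_smul_right, ht, smul_zero]
  have h := cen_move hw (hM _ (eich_mem R hv hvs)) (by rw [lift_apply, eich_fix R hv hvs])
  rw [E.root_apply hv hvs] at h
  have h' := (cen Q M (E.quad_zero hv)).add_mem h
    (hL (QuadraticMap.polar R w s + R s * QuadraticMap.polar R w v))
  rw [show QuadraticMap.polar R w v • s = t by rw [hs, smul_inv_smul₀ hwv]] at h'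
  convert h' using 1
  abel

include hd

/-- Transport to another singular point. -/
lemma eich_transport {v v' : V} (hv : R v = 0) (hv' : R v' = 0) (hv0 : v ≠ 0) (hv0' : v' ≠ 0)
    (h : ∀ t, QuadraticMap.polar R v t = 0 → eich Q v t ∈ M) {t : V} (ht : QuadraticMap.polar R v' t = 0) :
    eich Q v' t ∈ M := by
  obtain ⟨g, hg, hgv⟩ := exists_move_eichGroup R E.nd hd hv hv' hv0 hv0'
  obtain ⟨s, rfl⟩ : ∃ s, g.1 s = t := ⟨(g⁻¹).1 t, qApply_inv_self R g t⟩
  have hs : QuadraticMap.polar R v s = 0 := by rwa [← qAut_polar g, hgv]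
  have e := eich_conj Q (E.lift g) (E.quad_zero hv) (E.polar_zero hs)
  rw [lift_apply, lift_apply, hgv] at e
  exact e ▸ M.mul_mem (M.mul_mem (hM g hg) (h s hs)) (M.inv_mem (hM g hg))

/-- Degree at least three: the part off the perp. -/
theorem off_of_three (hr : 3 ≤ Module.finrank F K)
    (hline : ∀ v, R v = 0 → v ≠ 0 → ∀ k : K, eich Q v (k • v) ∈ M) {v f : V} (hv : R v = 0) (hv0 : v ≠ 0)
    (hf : R f = 0) (hfv : QuadraticMap.polar R f v = 1) {c : K} (hc : Algebra.trace F K c = 0) :
    c • f ∈ cen Q M (E.quad_zero hv) := by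
  by_cases hc0 : c = 0
  · rw [hc0, zero_smul]; exact (cen Q M _).zero_mem
  obtain ⟨k, hk, hkc⟩ : ∃ k : K, Algebra.trace F K k = 0 ∧ k ∉ Submodule.span F {c} := by
    obtain ⟨k, h1, h2⟩ : ∃ k ∈ LinearMap.ker (Algebra.trace F K), k ∉ Submodule.span F {c} :=
      SetLike.not_le_iff_exists.1 fun hle => by
        have h1 := Submodule.finrank_mono hle
        have h2 := LinearMap.finrank_range_add_finrank_ker (Algebra.trace F K)
        have h3 := Submodule.finrank_le (LinearMap.range (Algebra.trace F K))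
        rw [finrank_span_singleton hc0] at h1
        rw [Module.finrank_self] at h3
        omega
    exact ⟨k, LinearMap.mem_ker.1 h1, h2⟩
  have hk0 : k ≠ 0 := fun e => hkc (e ▸ Submodule.zero_mem _)
  obtain ⟨ψ, hψk, hψc⟩ := Submodule.exists_dual_map_eq_bot_of_notMem hkc inferInstance
  have hψc' : ψ c = 0 := by
    have : ψ c ∈ (Submodule.span F {c}).map ψ := ⟨c, Submodule.mem_span_singleton_self c, rfl⟩
    rwa [hψc, Submodule.mem_bot] at this
  obtain ⟨l, hl⟩ := ((Algebra.traceForm F K).toDual (traceForm_nondegenerate F K)).surjective ((ψ k)⁻¹ • ψ)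
  have hlx : ∀ x, Algebra.trace F K (l * x) = (ψ k)⁻¹ * ψ x := fun x => by
    rw [← Algebra.traceForm_apply, ← LinearMap.BilinForm.toDual_def (b := traceForm_nondegenerate F K), hl]; simp
  have hfk : R (k • f) = 0 := by rw [quad_smul, hf, mul_zero]
  have hf0 : f ≠ 0 := fun e => by rw [e, QuadraticMap.polar_zero_left] at hfv; exact zero_ne_one hfv
  have hg : eich Q (k • f) (c • f) ∈ M := by
    have := hline (k • f) hfk (smul_ne_zero hk0 hf0) (c / k)
    rwa [smul_smul, div_mul_cancel₀ _ hk0] at this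
  have hp : QuadraticMap.polar Q (k • f) (c • f) = 0 := E.polar_zero (by
    rw [QuadraticMap.polar_smul_left, QuadraticMap.polar_smul_right, polar_self_zero hf, smul_zero, smul_zero])
  have hB : ∀ a b : K, QuadraticMap.polar Q (a • v) (b • f) = Algebra.trace F K (a * b) := fun a b => by
    rw [E.polar, QuadraticMap.polar_smul_left, QuadraticMap.polar_smul_right, QuadraticMap.polar_comm, hfv,
      smul_eq_mul, smul_eq_mul, mul_one]
  have hgv : (eich Q (k • f) (c • f)).1 v = v := by
    have e1 := hB 1 k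
    have e2 := hB 1 c
    rw [one_smul, one_mul] at e1 e2
    rw [eich_apply Q (E.quad_zero hfk) hp, e1, e2, hk, hc]
    simp
  have hlv : l • v ∈ cen Q M (E.quad_zero hv) := ⟨E.polar_zero (by
    rw [QuadraticMap.polar_smul_right, polar_self_zero hv, smul_zero]), hline v hv hv0 l⟩
  have h := cen_move hlv hg hgv
  rw [eich_apply Q (E.quad_zero hfk) hp, hB, hB, hlx, hlx, hψc', inv_mul_cancel₀ hψk, mul_zero, zero_add,
    E.sing hf c, zero_mul, zero_smul, sub_zero, one_smul, add_sub_cancel_left] at h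
  exact h

/-- A moving element brings in the whole perp. -/
theorem perp_of_moving (ha : 7 ≤ Module.finrank K V)
    (hline : ∀ v, R v = 0 → v ≠ 0 → ∀ k : K, eich Q v (k • v) ∈ M) {v : V} {y : qAut Q} (hy : y ∈ M)
    (hm : Moving R v y) {t : V} (ht : QuadraticMap.polar R v t = 0) : eich Q v t ∈ M := by
  classical
  obtain ⟨hv, hv0, hyv, k, hk⟩ := hm
  have hQv := E.quad_zero hv
  have hL : ∀ k : K, k • v ∈ cen Q M hQv := fun k => ⟨E.polar_zero (by
    rw [QuadraticMap.polar_smul_right, polar_self_zero hv, smul_zero]), hline v hv hv0 k⟩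
  obtain ⟨z, hz⟩ : ∃ z, z = y.1 (k • v) := ⟨_, rfl⟩
  rw [← hz] at hk
  have hzS : z ∈ cen Q M hQv := by
    have h := (cen Q M hQv).add_mem (cen_move (hL k) hy hyv) (hL k)
    rwa [sub_add_cancel, ← hz] at h
  suffices h : t ∈ cen Q M hQv from h.2
  by_cases hzv : QuadraticMap.polar R z v = 0
  swap
  · exact E.perp_of_off hM hv hL hzS hzv ht
  obtain ⟨f, hf, hfv⟩ := E.exists_partner_sing hd hv0
  obtain ⟨Y, hY⟩ : ∃ Y : Submodule K V, Y = qPerp R (Submodule.span K {v} ⊔ Submodule.span K {f}) := ⟨_, rfl⟩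
  obtain ⟨P, hP⟩ : ∃ P : Submodule K V, P = Submodule.span K {v} ⊔ Submodule.span K {f} := ⟨_, rfl⟩
  rw [← hP] at hY
  have hYmem : ∀ {x}, x ∈ Y ↔ QuadraticMap.polar R v x = 0 ∧ QuadraticMap.polar R f x = 0 := fun {x} => by
    rw [hY, hP, qPerp_sup, Submodule.mem_inf, mem_qPerp_singleton, mem_qPerp_singleton]
  have hPnd : NdOn R P := fun a haP hab => by
    rw [hP] at haP hab
    obtain ⟨a₁, ha₁, a₂, ha₂, rfl⟩ := Submodule.mem_sup.1 haP
    obtain ⟨c₁, rfl⟩ := Submodule.mem_span_singleton.1 ha₁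
    obtain ⟨c₂, rfl⟩ := Submodule.mem_span_singleton.1 ha₂
    have h1 := hab v (Submodule.mem_sup_left (Submodule.mem_span_singleton_self v))
    have h2 := hab f (Submodule.mem_sup_right (Submodule.mem_span_singleton_self f))
    simp only [QuadraticMap.polar_add_left, QuadraticMap.polar_smul_left, polar_self_zero hv, polar_self_zero hf,
      hfv, QuadraticMap.polar_comm R v f, smul_eq_mul, mul_zero, mul_one, zero_add, add_zero] at h1 h2
    rw [h1, h2, zero_smul, zero_smul, add_zero]
  have hYnd : NdOn R Y := hY ▸ ndOn_qPerp R E.nd hPnd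
  have hYd : 5 ≤ Module.finrank K Y := by
    rw [hY, finrank_qPerp R E.nd, hP]
    have h1 := Submodule.finrank_add_le_finrank_add_finrank (Submodule.span K {v}) (Submodule.span K {f})
    have h4 : ∀ x : V, Module.finrank K (Submodule.span K {x}) ≤ 1 := fun x => by
      simpa using finrank_span_le_card (R := K) ({x} : Set V)
    have := h4 v; have := h4 f
    omega
  -- the largest subspace over `K` in the centre
  let W : Submodule K V :=
    { carrier := {s | s ∈ Y ∧ ∀ c : K, c • s ∈ cen Q M hQv}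
      add_mem' := fun {a b} ha hb => ⟨Y.add_mem ha.1 hb.1, fun c => by
        rw [smul_add]; exact (cen Q M hQv).add_mem (ha.2 c) (hb.2 c)⟩
      zero_mem' := ⟨Y.zero_mem, fun c => by rw [smul_zero]; exact (cen Q M hQv).zero_mem⟩
      smul_mem' := fun d a ha => ⟨Y.smul_mem d ha.1, fun c => by rw [smul_smul]; exact ha.2 _⟩ }
  obtain ⟨z₀, hz₀⟩ : ∃ z₀, z₀ = z - QuadraticMap.polar R f z • v := ⟨_, rfl⟩
  have hz₀Y : z₀ ∈ Y := hYmem.2 ⟨by
    rw [hz₀, QuadraticMap.polar_sub_right, QuadraticMap.polar_smul_right, polar_self_zero hv,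
      QuadraticMap.polar_comm R v z, hzv, smul_zero, sub_zero], by
    rw [hz₀, QuadraticMap.polar_sub_right, QuadraticMap.polar_smul_right, hfv, smul_eq_mul, mul_one, sub_self]⟩
  have hz₀0 : z₀ ≠ 0 := fun e => hk (Submodule.mem_span_singleton.2
    ⟨QuadraticMap.polar R f z, (sub_eq_zero.1 (hz₀ ▸ e)).symm⟩)
  obtain ⟨⟨p, hpY⟩, hp, hpz⟩ := exists_singular_polar (R.comp Y.subtype) (polarNondeg_comp R hYnd) (by omega)
    (v := (⟨z₀, hz₀Y⟩ : Y)) (fun e => hz₀0 (congrArg Subtype.val e))
  change R p = 0 at hp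
  have hzp : QuadraticMap.polar R z p ≠ 0 := by
    have e : QuadraticMap.polar R p z₀ = QuadraticMap.polar R z p := by
      rw [hz₀, QuadraticMap.polar_sub_right, QuadraticMap.polar_smul_right, QuadraticMap.polar_comm R p v,
        (hYmem.1 hpY).1, smul_zero, sub_zero, QuadraticMap.polar_comm]
    exact e ▸ hpz
  obtain ⟨u, huY, hpu, hup⟩ : ∃ u ∈ Y, QuadraticMap.polar R p u = 0 ∧ u ∉ Submodule.span K {p} := by
    obtain ⟨u, hu, hun⟩ : ∃ u ∈ Y ⊓ qPerp R (Submodule.span K {p}), u ∉ Submodule.span K {p} :=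
      SetLike.not_le_iff_exists.1 fun hle => by
        have h1 := Submodule.finrank_mono hle
        have h2 := Submodule.finrank_sup_add_finrank_inf_eq Y (qPerp R (Submodule.span K {p}))
        have h3 := Submodule.finrank_le (Y ⊔ qPerp R (Submodule.span K {p}))
        rw [finrank_qPerp R E.nd] at h2
        have h4 : Module.finrank K (Submodule.span K {p}) ≤ 1 := by
          simpa using finrank_span_le_card (R := K) ({p} : Set V)
        omega
    exact ⟨u, hu.1, (mem_qPerp_singleton R).1 hu.2, hun⟩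
  obtain ⟨s, hs⟩ : ∃ s, s = QuadraticMap.polar R z p • u - QuadraticMap.polar R z u • p := ⟨_, rfl⟩
  have hs0 : s ≠ 0 := fun e => hup (Submodule.mem_span_singleton.2
    ⟨QuadraticMap.polar R z u / QuadraticMap.polar R z p, by
      rw [e, eq_comm, sub_eq_zero] at hs
      rw [div_eq_inv_mul, mul_smul, ← hs, inv_smul_smul₀ hzp]⟩)
  have hpc : ∀ c : K, QuadraticMap.polar R p (c • u) = 0 := fun c => by
    rw [QuadraticMap.polar_smul_right, hpu, smul_zero]
  have hmove : ∀ c : K, (E.lift (eich R p (c • u))).1 z - z ∈ cen Q M hQv := fun c =>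
    cen_move hzS (hM _ (eich_mem R hp (hpc c))) (by
      rw [E.root_apply hp (hpc c), QuadraticMap.polar_smul_right, (hYmem.1 hpY).1, (hYmem.1 huY).1]
      simp)
  have hsW : s ∈ W := by
    refine ⟨hs ▸ Y.sub_mem (Y.smul_mem _ huY) (Y.smul_mem _ hpY), fun c => ?_⟩
    have h := (cen Q M hQv).sub_mem (hmove (c / 2)) (hmove (-(c / 2)))
    convert h using 1
    rw [E.root_apply hp (hpc _), E.root_apply hp (hpc _), hs, QuadraticMap.polar_smul_right,
      QuadraticMap.polar_smul_right, quad_smul, quad_smul, smul_eq_mul, smul_eq_mul]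
    have h2' := E.two'
    match_scalars <;> field_simp <;> ring
  have hWY : W.comap Y.subtype = ⊤ := by
    refine eq_top_of_invariant (R.comp Y.subtype) (polarNondeg_comp R hYnd) (by omega) (fun e => hs0 ?_) ?_
    · have : (⟨s, hsW.1⟩ : Y) ∈ W.comap Y.subtype := hsW
      rw [e, Submodule.mem_bot] at this
      exact congrArg Subtype.val this
    · refine (Subgroup.closure_le _).2 ?_
      rintro _ ⟨⟨a, haY⟩, ⟨b, hbY⟩, hQa, hab, rfl⟩
      change R a = 0 at hQa
      have hab' : QuadraticMap.polar R a b = 0 := hab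
      refine mem_qStab_of_maps _ fun x hx => ?_
      rw [eich_apply (R.comp Y.subtype) hQa hab]
      have hx' : (x : V) ∈ W := hx
      change (x : V) + QuadraticMap.polar R (x : V) a • b -
        (QuadraticMap.polar R (x : V) b + R b * QuadraticMap.polar R (x : V) a) • a ∈ W
      refine ⟨Y.sub_mem (Y.add_mem x.2 (Y.smul_mem _ hbY)) (Y.smul_mem _ haY), fun c => ?_⟩
      have h := (cen Q M hQv).add_mem (cen_move (hx'.2 c) (hM _ (eich_mem R hQa hab')) (by
        rw [E.root_apply hQa hab', (hYmem.1 haY).1, (hYmem.1 hbY).1]; simp)) (hx'.2 c)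
      rwa [sub_add_cancel, lift_apply, map_smul, eich_apply R hQa hab'] at h
  obtain ⟨t₀, ht₀⟩ : ∃ t₀, t₀ = t - QuadraticMap.polar R f t • v := ⟨_, rfl⟩
  have ht₀Y : t₀ ∈ Y := hYmem.2 ⟨by
    rw [ht₀, QuadraticMap.polar_sub_right, QuadraticMap.polar_smul_right, polar_self_zero hv, ht, smul_zero, sub_zero],
    by rw [ht₀, QuadraticMap.polar_sub_right, QuadraticMap.polar_smul_right, hfv, smul_eq_mul, mul_one, sub_self]⟩
  have hmem : t₀ ∈ W := by
    have : (⟨t₀, ht₀Y⟩ : Y) ∈ W.comap Y.subtype := hWY ▸ Submodule.mem_top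
    exact this
  have h := (cen Q M hQv).add_mem (hmem.2 1) (hL (QuadraticMap.polar R f t))
  rwa [one_smul, ht₀, sub_add_cancel] at h

/-- Degree two: the part off the perp. -/
theorem off_of_perp (ha : 5 ≤ Module.finrank K V) {v f : V} (hv : R v = 0) (hv0 : v ≠ 0)
    (hperp : ∀ t, QuadraticMap.polar R v t = 0 → eich Q v t ∈ M) (hf : R f = 0)
    (hfv : QuadraticMap.polar R f v = 1) {c : K} (hc : Algebra.trace F K c = 0) :
    c • f ∈ cen Q M (E.quad_zero hv) := by
  classical
  obtain ⟨Y, hY⟩ : ∃ Y : Submodule K V, Y = qPerp R (Submodule.span K {v}) ⊓ qPerp R (Submodule.span K {f}) :=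
    ⟨_, rfl⟩
  have hYd : 3 ≤ Module.finrank K Y := by
    have h2 := Submodule.finrank_sup_add_finrank_inf_eq (qPerp R (Submodule.span K {v}))
      (qPerp R (Submodule.span K {f}))
    have h3 := Submodule.finrank_le (qPerp R (Submodule.span K {v}) ⊔ qPerp R (Submodule.span K {f}))
    rw [finrank_qPerp R E.nd, finrank_qPerp R E.nd, ← hY] at h2
    have h4 : ∀ x : V, Module.finrank K (Submodule.span K {x}) ≤ 1 := fun x => by
      simpa using finrank_span_le_card (R := K) ({x} : Set V)
    have := h4 v; have := h4 f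
    omega
  obtain ⟨p, hpY, hp0, hp⟩ := exists_singular_mem R hYd
  rw [hY] at hpY
  have hvp := (mem_qPerp_singleton R).1 hpY.1
  have hfp := (mem_qPerp_singleton R).1 hpY.2
  obtain ⟨l, hl⟩ := Algebra.trace_surjective F K 1
  obtain ⟨x, hx⟩ : ∃ x, QuadraticMap.polar R x p = 1 := by
    obtain ⟨x, hx⟩ := E.exists_polar_eq hp0 1
    exact ⟨x, hx⟩
  obtain ⟨q, hq⟩ : ∃ q, q = l • (x - QuadraticMap.polar R x v • f - QuadraticMap.polar R x f • v) := ⟨_, rfl⟩
  have hqv : QuadraticMap.polar R v q = 0 := by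
    rw [hq, QuadraticMap.polar_smul_right, QuadraticMap.polar_sub_right, QuadraticMap.polar_sub_right,
      QuadraticMap.polar_smul_right, QuadraticMap.polar_smul_right, polar_self_zero hv,
      QuadraticMap.polar_comm R v x, QuadraticMap.polar_comm R v f, hfv]
    simp
  have hqf : QuadraticMap.polar R q f = 0 := by
    rw [hq, QuadraticMap.polar_smul_left, QuadraticMap.polar_sub_left, QuadraticMap.polar_sub_left,
      QuadraticMap.polar_smul_left, QuadraticMap.polar_smul_left, polar_self_zero hf,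
      QuadraticMap.polar_comm R v f, hfv]
    simp
  have hqp : QuadraticMap.polar R q p = l := by
    rw [hq, QuadraticMap.polar_smul_left, QuadraticMap.polar_sub_left, QuadraticMap.polar_sub_left,
      QuadraticMap.polar_smul_left, QuadraticMap.polar_smul_left, hvp, hfp, hx]
    simp
  have hpc : QuadraticMap.polar R p (c • f) = 0 := by
    rw [QuadraticMap.polar_smul_right, QuadraticMap.polar_comm, hfp, smul_zero]
  have hg : eich Q p (c • f) ∈ M := E.eich_transport hM hd hv hp hv0 hp0 hperp hpc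
  have hgv : (eich Q p (c • f)).1 v = v := by
    rw [eich_apply Q (E.quad_zero hp) (E.polar_zero hpc), E.polar, E.polar, QuadraticMap.polar_smul_right, hvp,
      QuadraticMap.polar_comm R v f, hfv, smul_eq_mul, mul_one, hc, map_zero]
    simp
  have hqS : q ∈ cen Q M (E.quad_zero hv) := ⟨E.polar_zero hqv, hperp q hqv⟩
  have h := cen_move hqS hg hgv
  rw [eich_apply Q (E.quad_zero hp) (E.polar_zero hpc), E.polar, E.polar, hqp, hl,
    QuadraticMap.polar_smul_right, hqf, smul_zero, map_zero, E.sing hf c, zero_mul, add_zero, zero_smul, sub_zero,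
    one_smul, add_sub_cancel_left] at h
  exact h

/-- All Eichler transformations lie in `M`. -/
theorem eichGroup_le (hr : (Module.finrank F K).Prime) (ha : Module.finrank F K = 2 → 7 ≤ Module.finrank K V)
    {v : V} {y : qAut Q} (hy : y ∈ M) (hm : Moving R v y) : eichGroup Q ≤ M := by
  obtain ⟨φ, h1, h2, h3⟩ := E.exists_line_transvection hM hd hr hy hm
  have hv := hm.1
  have hv0 := hm.2.1
  have hline : ∀ v, R v = 0 → v ≠ 0 → ∀ k : K, eich Q v (k • v) ∈ M := fun v' hv' hv0' k =>
    E.eich_line_mem hM hd hr hv hv0 h1 h2 h3 hv' hv0' k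
  have hQv := E.quad_zero hv
  obtain ⟨f, hf, hfv⟩ := E.exists_partner_sing hd hv0
  have hL : ∀ k : K, k • v ∈ cen Q M hQv := fun k => ⟨E.polar_zero (by
    rw [QuadraticMap.polar_smul_right, polar_self_zero hv, smul_zero]), hline v hv hv0 k⟩
  have hoff : ∀ c : K, Algebra.trace F K c = 0 → c • f ∈ cen Q M hQv := fun c hc => by
    by_cases hr2 : Module.finrank F K = 2
    · exact E.off_of_perp hM hd (by have := ha hr2; omega) hv hv0
        (fun t ht => E.perp_of_moving hM hd (ha hr2) hline hy hm ht) hf hfv hc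
    · exact E.off_of_three hM hd (by have := hr.two_le; omega) hline hv hv0 hf hfv hc
  obtain ⟨c₀, hc₀, hc₀0⟩ : ∃ c : K, Algebra.trace F K c = 0 ∧ c ≠ 0 := by
    obtain ⟨c, hc, hc0⟩ := Submodule.exists_mem_ne_zero_of_ne_bot (p := LinearMap.ker (Algebra.trace F K)) fun e => by
      have h2 := LinearMap.finrank_range_add_finrank_ker (Algebra.trace F K)
      have h3 := Submodule.finrank_le (LinearMap.range (Algebra.trace F K))
      rw [e, finrank_bot] at h2
      rw [Module.finrank_self] at h3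
      have := hr.two_le
      omega
    exact ⟨c, LinearMap.mem_ker.1 hc, hc0⟩
  have hperp : ∀ t, QuadraticMap.polar R v t = 0 → t ∈ cen Q M hQv := fun t ht =>
    E.perp_of_off hM hv hL (hoff c₀ hc₀) (by rwa [QuadraticMap.polar_smul_left, hfv, smul_eq_mul, mul_one]) ht
  have hfull : EFull Q M v := fun w hw => by
    obtain ⟨b, hb⟩ : ∃ b, b = QuadraticMap.polar R w v := ⟨_, rfl⟩
    have hb0 : Algebra.trace F K b = 0 := by rw [hb, ← E.polar, QuadraticMap.polar_comm, hw]
    have h1' := (cen Q M hQv).add_mem (hperp (w - b • f) (by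
      rw [QuadraticMap.polar_sub_right, QuadraticMap.polar_smul_right, QuadraticMap.polar_comm R v f, hfv,
        QuadraticMap.polar_comm, ← hb, smul_eq_mul, mul_one, sub_self])) (hoff b hb0)
    rw [sub_add_cancel] at h1'
    exact h1'.2
  obtain ⟨l, hl⟩ := Algebra.trace_surjective F K 1
  have hlf : R (l • f) = 0 := by rw [quad_smul, hf, mul_zero]
  have hpol : QuadraticMap.polar Q v (l • f) = 1 := by
    rw [E.polar, QuadraticMap.polar_smul_right, QuadraticMap.polar_comm, hfv, smul_eq_mul, mul_one, hl]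
  have hlf0 : l • f ≠ 0 := fun e => by rw [e, QuadraticMap.polar_zero_right] at hpol; exact zero_ne_one hpol
  obtain ⟨g, hg, hgv⟩ := exists_move_eichGroup R E.nd hd hv hlf hv0 hlf0
  have hfull' : EFull Q M (l • f) := by
    have := efull_conj Q (hM g hg) hQv hfull
    rwa [lift_apply, hgv] at this
  have hdim : 4 ≤ Module.finrank F V := by
    rw [← Module.finrank_mul_finrank F K V]
    exact le_trans hd (Nat.le_mul_of_pos_left _ hr.pos)
  exact eichGroup_le_of_full Q E.polarNondeg hdim hQv (E.quad_zero hlf) (by rw [hpol]; exact one_ne_zero)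
    hfull hfull'

end Over

end CfsgLib.Classical22.OrthField
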