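/-
Degree two, any dimension at least four over the extension field: everything from the long root elements inside
singular lines.
-/
import Cfsg.Agent.Lib.Classical22.OrthField.Full

set_option autoImplicit false
set_option linter.all false

namespace CfsgLib.Classical22.OrthField

open CfsgLib.Classical

variable {F : Type*} [Field F] {K : Type*} [Field K] [Algebra F K]
variable {V : Type*} [AddCommGroup V] [Module F V] [Module K V] [IsScalarTower F K V]
variable {Q : QuadraticForm F V} {R : QuadraticForm K V} {M : Subgroup (qAut Q)}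
variable [FiniteDimensional F K] [Fintype F] [Fintype K] [FiniteDimensional F V] [FiniteDimensional K V]

namespace Over

variable (E : Over Q R) (hM : LinIn E M)
include E hM

omit [FiniteDimensional F K] [Fintype F] [Fintype K] [FiniteDimensional F V] in
/-- An element of the centre at a point brings in the singular lines of the perp that it is not orthogonal to. -/
theorem line_of_point {a : V} (hQa : Q a = 0) {z : V} (hz : z ∈ cen Q M hQa) {u w₀ : V}
    (hu : R u = 0) (hua : QuadraticMap.polar R u a = 0) (hwa : QuadraticMap.polar R w₀ a = 0)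
    (huw : QuadraticMap.polar R u w₀ = 0) (hw : R w₀ ≠ 0) (hzu : QuadraticMap.polar R z u ≠ 0) (k : K) :
    k • u ∈ cen Q M hQa := by
  have h2 := E.two'
  have hd : ∀ s : K, (E.lift (eich R u (s • w₀))).1 z - z ∈ cen Q M hQa := fun s => by
    have hus : QuadraticMap.polar R u (s • w₀) = 0 := by rw [QuadraticMap.polar_smul_right, huw, smul_zero]
    refine cen_move hz (hM _ (eich_mem R hu hus)) ?_
    rw [E.root_apply hu hus, QuadraticMap.polar_comm R a u, hua, QuadraticMap.polar_comm R a (s • w₀),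
      QuadraticMap.polar_smul_left, hwa, smul_zero]
    simp
  obtain ⟨c, hc⟩ : ∃ c, c = -(2 * R w₀ * QuadraticMap.polar R z u) := ⟨_, rfl⟩
  have hc0 : c ≠ 0 := by
    rw [hc]
    exact neg_ne_zero.2 (mul_ne_zero (mul_ne_zero h2 hw) hzu)
  have hsq : ∀ s : K, (s * s * c) • u ∈ cen Q M hQa := fun s => by
    have hus : ∀ t : K, QuadraticMap.polar R u (t • w₀) = 0 := fun t => by
      rw [QuadraticMap.polar_smul_right, huw, smul_zero]
    have h := (cen Q M hQa).add_mem (hd s) (hd (-s))
    convert h using 1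
    rw [E.root_apply hu (hus _), E.root_apply hu (hus _), hc, QuadraticMap.polar_smul_right,
      QuadraticMap.polar_smul_right, quad_smul, quad_smul, smul_eq_mul, smul_eq_mul]
    match_scalars <;> ring
  have h := (cen Q M hQa).sub_mem (hsq ((k / c + 1) / 2)) (hsq ((k / c - 1) / 2))
  rw [← sub_smul] at h
  rwa [show (k / c + 1) / 2 * ((k / c + 1) / 2) * c - (k / c - 1) / 2 * ((k / c - 1) / 2) * c = k by
    field_simp; ring] at h

variable (hd : 4 ≤ Module.finrank K V)
include hd

/-- Degree two: a moving element gives every Eichler transformation. -/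
theorem eichGroup_le_two (hr : Module.finrank F K = 2) {v : V} {y : qAut Q} (hy : y ∈ M) (hm : Moving R v y) :
    eichGroup Q ≤ M := by
  classical
  have hr' : (Module.finrank F K).Prime := hr ▸ Nat.prime_two
  obtain ⟨φ, h1, h2, h3⟩ := E.exists_line_transvection hM hd hr' hy hm
  have hv := hm.1
  have hv0 := hm.2.1
  have hline : ∀ v', R v' = 0 → v' ≠ 0 → ∀ k : K, eich Q v' (k • v') ∈ M := fun v' hv' hv0' k =>
    E.eich_line_mem hM hd hr' hv hv0 h1 h2 h3 hv' hv0' k
  have h2K := E.two'
  have hQv := E.quad_zero hv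
  obtain ⟨f, hf, hfv⟩ := E.exists_partner_sing hd hv0
  have hf0 : f ≠ 0 := fun e => by rw [e, QuadraticMap.polar_zero_left] at hfv; exact zero_ne_one hfv
  -- a trace zero scalar
  obtain ⟨δ, hδ, hδ0⟩ : ∃ c : K, Algebra.trace F K c = 0 ∧ c ≠ 0 := by
    obtain ⟨c, hc, hc0⟩ := Submodule.exists_mem_ne_zero_of_ne_bot (p := LinearMap.ker (Algebra.trace F K)) fun e => by
      have h2' := LinearMap.finrank_range_add_finrank_ker (Algebra.trace F K)
      have h3' := Submodule.finrank_le (LinearMap.range (Algebra.trace F K))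
      rw [e, finrank_bot] at h2'
      rw [Module.finrank_self] at h3'
      omega
    exact ⟨c, LinearMap.mem_ker.1 hc, hc0⟩
  have hT1 : Algebra.trace F K (1 : K) = 2 := by
    rw [← map_one (algebraMap F K), Algebra.trace_algebraMap, hr, nsmul_eq_mul]; simp
  have hker : ∀ b : K, Algebra.trace F K b = 0 → ∃ s : F, s • δ = b := by
    intro b hb
    have h1' := LinearMap.finrank_range_add_finrank_ker (Algebra.trace F K)
    rw [LinearMap.range_eq_top.2 (Algebra.trace_surjective F K), finrank_top, Module.finrank_self, hr] at h1'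
    have hle : Submodule.span F {δ} ≤ LinearMap.ker (Algebra.trace F K) :=
      (Submodule.span_singleton_le_iff_mem _ _).2 (LinearMap.mem_ker.2 hδ)
    have heq := Submodule.eq_of_le_of_finrank_le hle (by rw [finrank_span_singleton hδ0]; omega)
    exact Submodule.mem_span_singleton.1 (heq ▸ LinearMap.mem_ker.2 hb)
  have hvδ : QuadraticMap.polar Q v (δ • v) = 0 := E.polar_zero (by
    rw [QuadraticMap.polar_smul_right, polar_self_zero hv, smul_zero])
  obtain ⟨g, hg⟩ : ∃ g, g = eich Q v (δ • v) := ⟨_, rfl⟩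
  have hgM : g ∈ M := hg ▸ hline v hv hv0 δ
  have hgk : ∀ k : K, g.1 (k • f) = k • f + Algebra.trace F K k • (δ • v) - Algebra.trace F K (k * δ) • v := fun k => by
    rw [hg, eich_apply Q hQv hvδ, E.sing hv δ, zero_mul, add_zero, E.polar, E.polar, QuadraticMap.polar_smul_left,
      QuadraticMap.polar_smul_left, QuadraticMap.polar_smul_right, hfv]
    simp only [smul_eq_mul, mul_one]
  obtain ⟨a, ha⟩ : ∃ a, a = g.1 f := ⟨_, rfl⟩
  obtain ⟨b, hb⟩ : ∃ b, b = g.1 (δ • f) := ⟨_, rfl⟩
  have ha' : a = f + (2 * δ) • v := by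
    have h := hgk 1
    rw [one_smul, one_mul, hδ, hT1, zero_smul, sub_zero, ← smul_assoc] at h
    rw [ha, h, Algebra.smul_def, map_ofNat]
  have hQa : Q a = 0 := by rw [ha, qAut_map, E.quad_zero hf]
  have hfδ : QuadraticMap.polar Q f (δ • f) = 0 := E.polar_zero (by
    rw [QuadraticMap.polar_smul_right, polar_self_zero hf, smul_zero])
  have hbc : b ∈ cen Q M hQa := by
    refine ⟨by rw [ha, hb, qAut_polar, hfδ], ?_⟩
    rw [ha, hb, ← eich_conj Q g (E.quad_zero hf) hfδ]
    exact M.mul_mem (M.mul_mem hgM (hline f hf hf0 δ)) (M.inv_mem hgM)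
  have hvf : QuadraticMap.polar R v f = 1 := (QuadraticMap.polar_comm R v f).trans hfv
  have hav : QuadraticMap.polar R a v = 1 := by
    rw [ha', QuadraticMap.polar_add_left, QuadraticMap.polar_smul_left, polar_self_zero hv, hfv, smul_zero, add_zero]
  have hRa : R a = 2 * δ := by
    rw [ha', quad_add, hf, quad_smul, hv, QuadraticMap.polar_smul_right, hfv, smul_eq_mul, mul_one, mul_zero,
      zero_add, zero_add]
  have hRa0 : R a ≠ 0 := by rw [hRa]; exact mul_ne_zero h2K hδ0
  have hnn : QuadraticMap.polar R a a ≠ 0 := by rw [quad_polar_self]; exact mul_ne_zero h2K hRa0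
  have ha0 : a ≠ 0 := fun e => hRa0 (by rw [e, map_zero])
  have hQaa : QuadraticMap.polar Q a a = 0 := by rw [quad_polar_self, hQa, mul_zero]
  -- multiples of the point over the ground field are in its centre
  have hFa : ∀ s : F, s • a ∈ cen Q M hQa := fun s => by
    have hp : QuadraticMap.polar Q a (s • a) = 0 := by rw [QuadraticMap.polar_smul_right, hQaa, smul_zero]
    refine ⟨hp, ?_⟩
    rw [show eich Q a (s • a) = 1 from qAut_ext fun x => by
      rw [eich_apply Q hQa hp, quad_smul, hQa, QuadraticMap.polar_smul_right, smul_eq_mul]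
      change _ = x
      module]
    exact M.one_mem
  have hsplit : ∀ w, QuadraticMap.polar Q a w = 0 → ∃ s : F, QuadraticMap.polar R a (w - s • a) = 0 := by
    intro w hw
    obtain ⟨s, hs⟩ := hker (QuadraticMap.polar R a w) (by rw [← E.polar, hw])
    refine ⟨s / 4, ?_⟩
    rw [QuadraticMap.polar_sub_right, show (s / 4) • a = (algebraMap F K (s / 4)) • a from (algebraMap_smul K _ a).symm,
      QuadraticMap.polar_smul_right, quad_polar_self, hRa, ← hs, Algebra.smul_def, smul_eq_mul, map_div₀, map_ofNat]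
    have h4 : (4 : K) ≠ 0 := by rw [show (4 : K) = 2 * 2 by norm_num]; exact mul_ne_zero h2K h2K
    field_simp
    ring
  -- the perp of the point over the extension
  obtain ⟨X, hX⟩ : ∃ X : Submodule K V, X = qPerp R (Submodule.span K {a}) := ⟨_, rfl⟩
  have hXm : ∀ {x}, x ∈ X ↔ QuadraticMap.polar R a x = 0 := fun {x} => by rw [hX, mem_qPerp_singleton]
  have hXnd : NdOn R X := hX ▸ ndOn_qPerp R E.nd (fun x hx hxa => by
    obtain ⟨s, rfl⟩ := Submodule.mem_span_singleton.1 hx
    have h := hxa a (Submodule.mem_span_singleton_self a)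
    rw [QuadraticMap.polar_smul_left, smul_eq_mul] at h
    rw [(mul_eq_zero.1 h).resolve_right hnn, zero_smul])
  have hXd : Module.finrank K V ≤ Module.finrank K X + 1 := by
    rw [hX, finrank_qPerp R E.nd, finrank_span_singleton ha0]; omega
  have hRX := polarNondeg_comp R hXnd
  obtain ⟨s₀, hs₀⟩ := hsplit b hbc.1
  obtain ⟨b₀, hb₀⟩ : ∃ b₀, b₀ = b - s₀ • a := ⟨_, rfl⟩
  have hb₀X : b₀ ∈ X := hXm.2 (hb₀ ▸ hs₀)
  have hb₀c : b₀ ∈ cen Q M hQa := hb₀ ▸ (cen Q M hQa).sub_mem hbc (hFa s₀)
  have hb₀0 : (⟨b₀, hb₀X⟩ : X) ≠ 0 := fun e => by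
    have e' : g.1 (δ • f - s₀ • f) = 0 := by
      rw [map_sub, map_smul g.1 s₀ f, ← ha, ← hb, ← hb₀]; exact congrArg Subtype.val e
    have e'' : (δ - algebraMap F K s₀) • f = 0 := by
      rw [sub_smul, algebraMap_smul]; exact g.1.injective (e'.trans (map_zero _).symm)
    have e3 := (smul_eq_zero.1 e'').resolve_right hf0
    rw [sub_eq_zero] at e3
    have hs := hδ
    rw [e3, Algebra.trace_algebraMap, hr, nsmul_eq_mul] at hs
    refine hδ0 ?_
    rw [e3, (mul_eq_zero.1 hs).resolve_left (by simpa using E.two), map_zero]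
  -- one singular line
  have hline' : ∀ z ∈ cen Q M hQa, ∀ u ∈ X, R u = 0 → u ≠ 0 → QuadraticMap.polar R z u ≠ 0 →
      ∀ k : K, k • u ∈ cen Q M hQa := by
    intro z hz u hu hRu hu0 hzu k
    obtain ⟨w₀, hw₀, hRw⟩ : ∃ w ∈ X ⊓ qPerp R (Submodule.span K {u}), R w ≠ 0 := by
      by_contra hc
      push Not at hc
      have h1 := finrank_inf_qPerp R E.nd hXnd ((Submodule.span_singleton_le_iff_mem _ _).2 hu)
      rw [finrank_span_singleton hu0] at h1
      have hsub : ∀ w ∈ (X ⊓ qPerp R (Submodule.span K {u})).comap X.subtype, (R.comp X.subtype) w = 0 :=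
        fun w hw => hc w hw
      have h' := two_mul_finrank_singular (R.comp X.subtype) hRX hsub
      rw [(Submodule.comapSubtypeEquivOfLe (inf_le_left : X ⊓ qPerp R (Submodule.span K {u}) ≤ X)).finrank_eq] at h'
      omega
    exact E.line_of_point hM hQa hz hRu ((QuadraticMap.polar_comm R u a).trans (hXm.1 hu))
      ((QuadraticMap.polar_comm R w₀ a).trans (hXm.1 hw₀.1)) ((mem_qPerp_singleton R).1 hw₀.2) hRw hzu k
  obtain ⟨⟨e, heX⟩, hRe, heb⟩ := exists_singular_polar (R.comp X.subtype) hRX (by omega) hb₀0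
  change R e = 0 at hRe
  change QuadraticMap.polar R e b₀ ≠ 0 at heb
  have he0 : e ≠ 0 := fun h => heb (by rw [h, QuadraticMap.polar_zero_left])
  have hKe := hline' b₀ hb₀c e heX hRe he0 (by rwa [QuadraticMap.polar_comm])
  obtain ⟨⟨e', he'X⟩, hRe', he'e⟩ := exists_singular_polar (R.comp X.subtype) hRX (by omega)
    (v := (⟨e, heX⟩ : X)) fun h => he0 (congrArg Subtype.val h)
  change R e' = 0 at hRe'
  change QuadraticMap.polar R e' e ≠ 0 at he'e
  have hfar : ∀ u ∈ X, R u = 0 → QuadraticMap.polar R e u ≠ 0 → ∀ k : K, k • u ∈ cen Q M hQa :=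
    fun u hu hRu heu => hline' e (by simpa using hKe 1) u hu hRu
      (fun h => heu (by rw [h, QuadraticMap.polar_zero_right])) heu
  have hee' : QuadraticMap.polar R e e' ≠ 0 := by rwa [QuadraticMap.polar_comm]
  have hKe' := hfar e' he'X hRe' hee'
  have hXc : ∀ x ∈ X, x ∈ cen Q M hQa := by
    intro x hx
    obtain ⟨c, hc⟩ : ∃ c, c = QuadraticMap.polar R e x / QuadraticMap.polar R e e' := ⟨_, rfl⟩
    obtain ⟨w, hw⟩ : ∃ w, w = x - c • e' := ⟨_, rfl⟩
    have hwX : w ∈ X := hw ▸ X.sub_mem hx (X.smul_mem _ he'X)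
    have hew : QuadraticMap.polar R e w = 0 := by
      rw [hw, QuadraticMap.polar_sub_right, QuadraticMap.polar_smul_right, hc, smul_eq_mul, div_mul_cancel₀ _ hee',
        sub_self]
    obtain ⟨s, hs⟩ : ∃ s, s = -(R w + QuadraticMap.polar R e' w) / QuadraticMap.polar R e' e := ⟨_, rfl⟩
    have hu : R (e' + w + s • e) = 0 := by
      rw [quad_add, quad_add, hRe', quad_smul, hRe, QuadraticMap.polar_smul_right, QuadraticMap.polar_add_left,
        QuadraticMap.polar_comm R w e, hew, hs, add_zero, smul_eq_mul, div_mul_cancel₀ _ he'e]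
      ring
    have heu : QuadraticMap.polar R e (e' + w + s • e) ≠ 0 := by
      rwa [QuadraticMap.polar_add_right, QuadraticMap.polar_add_right, QuadraticMap.polar_smul_right,
        polar_self_zero hRe, hew, smul_zero, add_zero, add_zero]
    have h := hfar _ (X.add_mem (X.add_mem he'X hwX) (X.smul_mem _ heX)) hu heu 1
    have h' := (cen Q M hQa).add_mem ((cen Q M hQa).sub_mem ((cen Q M hQa).sub_mem h (hKe s)) (hKe' 1)) (hKe' c)
    rw [one_smul, one_smul] at h'
    rwa [show e' + w + s • e - s • e - e' + c • e' = x by rw [hw]; abel] at h'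
  have hfull : EFull Q M a := fun w hw => by
    obtain ⟨s, hs⟩ := hsplit w hw
    have h := (cen Q M hQa).add_mem (hXc _ (hXm.2 hs)) (hFa s)
    rw [sub_add_cancel] at h
    exact h.2
  -- a second point
  obtain ⟨t₀, hvt₀, ht₀⟩ := E.exists_aniso_perp_one (u := v) (by omega)
  obtain ⟨c, hc⟩ : ∃ c : K, Algebra.trace F K (c * c * R t₀) ≠ 0 := by
    by_contra hc
    push Not at hc
    refine ht₀ (E.trace_ext fun k => ?_)
    have e1 := hc ((k + 1) / 2)
    have e2 := hc ((k - 1) / 2)
    rw [show k * R t₀ = (k + 1) / 2 * ((k + 1) / 2) * R t₀ - (k - 1) / 2 * ((k - 1) / 2) * R t₀ by field_simp; ring,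
      map_sub, e1, e2, sub_zero]
  obtain ⟨t, ht⟩ : ∃ t, t = c • t₀ := ⟨_, rfl⟩
  have hvt : QuadraticMap.polar R v t = 0 := by rw [ht, QuadraticMap.polar_smul_right, hvt₀, smul_zero]
  have hmem := hM _ (eich_mem R hv hvt)
  have hpol : QuadraticMap.polar Q a ((E.lift (eich R v t)).1 a) ≠ 0 := by
    rw [E.polar, E.root_apply hv hvt, QuadraticMap.polar_sub_right, QuadraticMap.polar_add_right,
      QuadraticMap.polar_smul_right, QuadraticMap.polar_smul_right, hav, quad_polar_self, hRa, one_smul, smul_eq_mul,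
      mul_one, mul_one, ht, quad_smul]
    intro h
    refine hc ?_
    have e : Algebra.trace F K (2 * (2 * δ)) = 0 := by
      rw [show (2 : K) * (2 * δ) = (4 : F) • δ by rw [Algebra.smul_def, map_ofNat]; ring, map_smul, hδ, smul_zero]
    rw [map_sub, map_add, map_add, e] at h
    linear_combination -h
  have hdim : 4 ≤ Module.finrank F V := by
    rw [← Module.finrank_mul_finrank F K V, hr]; omega
  exact eichGroup_le_of_full Q E.polarNondeg hdim hQa (by rw [qAut_map, hQa]) hpol hfull
    (efull_conj Q hmem hQa hfull)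

end Over

end CfsgLib.Classical22.OrthField
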