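/-
The normaliser of a self-adjoint field of prime degree is maximal in Omega.
-/
import Cfsg.Agent.Lib.Classical22.OrthField.Two
import Cfsg.Agent.Lib.Classical22.OrthMaxMatrix
import Cfsg.Agent.Lib.Classical22.UnitOverFinal
import Cfsg.Agent.Lib.Classical22.FieldMaxStart
import Mathlib.LinearAlgebra.QuadraticForm.Basic

set_option autoImplicit false
set_option linter.all false

namespace CfsgLib.Classical22.OrthField

open CfsgLib.Classical
open scoped MatrixGroups Matrix

variable {F : Type*} [Field F] [Fintype F] {K : Type*} [Field K] [Algebra F K] [FiniteDimensional F K]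

/-- A self-adjoint field makes the form the trace of a form over the field. -/
theorem exists_over {V : Type*} [AddCommGroup V] [Module F V] [Module K V] [IsScalarTower F K V]
    {Q : QuadraticForm F V} (hQ : PolarNondeg Q) (h2 : (2 : F) ≠ 0)
    (hsa : ∀ (k : K) x y, QuadraticMap.polar Q (k • x) y = QuadraticMap.polar Q x (k • y)) :
    ∃ R : QuadraticForm K V, Over Q R := by
  haveI : Finite K := Module.finite_of_finite F
  have hT := traceForm_nondegenerate F K
  have hex : ∀ x y, ∃ b : K, ∀ k, Algebra.trace F K (b * k) = QuadraticMap.polar Q (k • x) y := fun x y => by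
    obtain ⟨b, hb⟩ := ((Algebra.traceForm F K).toDual hT).surjective
      { toFun := fun k => QuadraticMap.polar Q (k • x) y
        map_add' := fun a b => by rw [add_smul, QuadraticMap.polar_add_left]
        map_smul' := fun c a => by rw [smul_assoc, QuadraticMap.polar_smul_left, RingHom.id_apply] }
    exact ⟨b, fun k => by rw [← Algebra.traceForm_apply, ← LinearMap.BilinForm.toDual_def (b := hT), hb]; rfl⟩
  choose b hb using hex
  have huniq : ∀ a c : K, (∀ k, Algebra.trace F K (a * k) = Algebra.trace F K (c * k)) → a = c := fun a c h =>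
    sub_eq_zero.1 (hT.1 _ fun k => by rw [Algebra.traceForm_apply, sub_mul, map_sub, h, sub_self])
  obtain ⟨β, hβ⟩ : ∃ β : LinearMap.BilinForm K V, ∀ x y, β x y = b x y :=
    ⟨LinearMap.mk₂ K b (fun x x' y => huniq _ _ fun k => by
        rw [add_mul, map_add, hb, hb, hb, smul_add, QuadraticMap.polar_add_left])
      (fun c x y => huniq _ _ fun k => by
        rw [hb, smul_eq_mul, mul_comm c, mul_assoc, hb, smul_smul, mul_comm k])
      (fun x y y' => huniq _ _ fun k => by
        rw [add_mul, map_add, hb, hb, hb, QuadraticMap.polar_add_right])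
      (fun c x y => huniq _ _ fun k => by
        rw [hb, smul_eq_mul, mul_comm c, mul_assoc, hb, ← hsa, smul_smul]), fun x y => rfl⟩
  have hsymm : ∀ x y, β y x = β x y := fun x y => by
    rw [hβ, hβ]
    exact huniq _ _ fun k => by rw [hb, hb, hsa, QuadraticMap.polar_comm]
  have h2K : (2 : K) ≠ 0 := fun h => h2 ((algebraMap F K).injective (by rw [map_ofNat, h, map_zero]))
  have htr : ∀ x y, Algebra.trace F K (β x y) = QuadraticMap.polar Q x y := fun x y => by
    have := hb x y 1
    rwa [mul_one, one_smul, ← hβ] at this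
  obtain ⟨R, hR⟩ : ∃ R : QuadraticForm K V, ∀ x, R x = (2 : K)⁻¹ * β x x :=
    ⟨LinearMap.BilinMap.toQuadraticMap ((2 : K)⁻¹ • β), fun x => by simp⟩
  refine ⟨R, fun x => ?_, fun x hx => hQ x fun y => ?_, h2⟩
  · rw [hR, show (2 : K)⁻¹ = algebraMap F K (2 : F)⁻¹ by rw [map_inv₀, map_ofNat], ← Algebra.smul_def, map_smul, htr,
      quad_polar_self, smul_eq_mul, ← mul_assoc, inv_mul_cancel₀ h2, one_mul]
  · have h := hx y
    simp only [QuadraticMap.polar, hR, map_add, LinearMap.add_apply] at h
    have h' : β x y = 0 := by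
      have e : (2 : K)⁻¹ * (2 * β x y) = 0 := by linear_combination h - (2 : K)⁻¹ * hsymm x y
      rwa [← mul_assoc, inv_mul_cancel₀ h2K, one_mul] at e
    rw [← htr, h', map_zero]

variable {ι : Type} [Fintype ι] [DecidableEq ι] [Module K (ι → F)] [IsScalarTower F K (ι → F)]

/-- The core statement. -/
theorem core (q : QuadraticForm F (ι → F)) (hQ : PolarNondeg q) (h2 : (2 : F) ≠ 0)
    (hr : (Module.finrank F K).Prime) (hd : 4 * Module.finrank F K ≤ Fintype.card ι)
    (hsa : ∀ (k : K) x y, QuadraticMap.polar q (k • x) y = QuadraticMap.polar q x (k • y)) {S : Subgroup (GL ι F)}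
    (hlin : ∀ g : GL ι F, FieldMax.Semi K g → g ∈ S) (hsemi : ∀ g ∈ S, FieldMax.Semi K g) :
    Cfsg.Geo.IsMaximalIn (Cfsg.Geo.omegaGL ⇑q) (S ⊓ Cfsg.Geo.omegaGL ⇑q) := by
  classical
  haveI : Finite K := Module.finite_of_finite F
  haveI : Fintype K := Fintype.ofFinite K
  haveI : FiniteDimensional K (ι → F) := Module.Finite.of_restrictScalars_finite F K (ι → F)
  have hmul : Module.finrank F K * Module.finrank K (ι → F) = Fintype.card ι := by
    rw [Module.finrank_mul_finrank, Module.finrank_fintype_fun_eq_card]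
  have hd4 : 4 ≤ Module.finrank K (ι → F) := by nlinarith [hr.pos]
  have hn5 : 5 ≤ Fintype.card ι := by have := hr.two_le; omega
  obtain ⟨R, E⟩ := exists_over hQ h2 hsa
  refine isMaximalIn_omegaGL q hQ hn5 rfl (fun hle => ?_) fun M hHM hMe hMS => ?_
  · obtain ⟨v, hv0, hv⟩ := exists_singular R E.nd (by omega)
    obtain ⟨w, hwv⟩ := E.exists_polar_eq hv0 1
    obtain ⟨δ, hδ⟩ : ∃ δ : K, δ ∉ Submodule.span F {(1 : K)} := by
      by_contra hc
      push Not at hc
      have h1 := Submodule.finrank_mono (show (⊤ : Submodule F K) ≤ Submodule.span F {(1 : K)} from fun x _ => hc x)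
      rw [finrank_top, finrank_span_singleton one_ne_zero] at h1
      have := hr.two_le
      omega
    have hQv := E.quad_zero hv
    have hp : QuadraticMap.polar q v (δ • v) = 0 := E.polar_zero (by
      rw [QuadraticMap.polar_smul_right, Over.polar_self_zero hv, smul_zero])
    obtain ⟨g, hg⟩ : ∃ g, g = eich q v (δ • v) := ⟨_, rfl⟩
    have hgS : FieldMax.Semi K (qHom q g) := hsemi _ (hle (hg ▸ eich_mem q hQv hp))
    obtain ⟨X, hX⟩ : ∃ X : K → K, ∀ b, X b = Algebra.trace F K b • δ - Algebra.trace F K (b * δ) • (1 : K) :=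
      ⟨_, fun _ => rfl⟩
    have hge : ∀ x, g.1 x = x + X (QuadraticMap.polar R x v) • v := fun x => by
      rw [hg, eich_apply q hQv hp, E.sing hv δ, zero_mul, add_zero, E.polar, E.polar, QuadraticMap.polar_smul_right,
        smul_eq_mul, hX, sub_smul, smul_assoc, smul_assoc, one_smul, mul_comm δ]
      abel
    have hgv : ∀ k : K, g.1 (k • v) = k • v := fun k => by
      rw [hge, QuadraticMap.polar_smul_left, Over.polar_self_zero hv, smul_zero, hX, zero_mul, map_zero, zero_smul,
        zero_smul, sub_zero, zero_smul, add_zero]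
    have hXlin : ∀ k : K, X k = k * X 1 := fun k => by
      obtain ⟨k', hk'⟩ := hgS k
      have h1 := hk' v
      simp only [qHom_mulVec] at h1
      rw [hgv] at h1
      have hv1 : g.1 v = v := by simpa using hgv 1
      rw [hv1] at h1
      have hkk : k = k' := smul_left_injective K hv0 h1
      subst hkk
      have h3 := hk' w
      simp only [qHom_mulVec, hge] at h3
      rw [QuadraticMap.polar_smul_left, hwv, smul_eq_mul, mul_one, smul_add, smul_smul, add_right_inj] at h3
      exact smul_left_injective K hv0 h3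
    have hskew : ∀ k : K, Algebra.trace F K (X k) * 1 + Algebra.trace F K (k * X 1) = 0 := fun k => by
      simp only [hX, one_mul, map_sub, map_smul, smul_eq_mul, mul_sub, mul_smul_comm, mul_one]
      ring
    have hX1 : X 1 = 0 := E.trace_ext fun k => by
      have := hskew k
      rw [hXlin k, mul_one, ← two_mul] at this
      exact (mul_eq_zero.1 this).resolve_left h2
    obtain ⟨b, hb⟩ := Algebra.trace_surjective F K 1
    have h5 := hX b
    rw [hXlin b, hX1, mul_zero, hb, one_smul, eq_comm, sub_eq_zero] at h5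
    exact hδ (Submodule.mem_span_singleton.2 ⟨_, h5.symm⟩)
  · have hlinM : LinIn E M := fun g hg => hHM
      ⟨hlin _ fun k => ⟨k, fun x => by
        simp only [qHom_mulVec, Over.lift_apply]; exact map_smul g.1 k x⟩,
        E.lift_mem (by omega) (by rwa [Module.finrank_fintype_fun_eq_card]) hg⟩
    obtain ⟨g, hg, hgS⟩ := SetLike.not_le_iff_exists.1 hMS
    by_cases hex : ∃ v y, y ∈ M ∧ Moving R v y
    · obtain ⟨v, y, hy, hm⟩ := hex
      by_cases hr2 : Module.finrank F K = 2
      · exact E.eichGroup_le_two hlinM hd4 hr2 hy hm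
      · exact E.eichGroup_le hlinM hd4 hr (fun h => absurd h hr2) hy hm
    exfalso
    refine hgS (hlin _ (FieldMax.semi_of_lines (fun v => ?_) fun v k => ?_))
    · by_contra hc
      push Not at hc
      have h1 := Submodule.finrank_mono (show (⊤ : Submodule K (ι → F)) ≤ Submodule.span K {v} from fun x _ => hc x)
      rw [finrank_top] at h1
      have h4 : Module.finrank K (Submodule.span K {v}) ≤ 1 := by
        simpa using finrank_span_le_card (R := K) ({v} : Set (ι → F))
      omega
    · simp only [qHom_mulVec]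
      refine E.lines_of_singular hd4 (fun u hu k => ?_) v k
      by_cases hu0 : u = 0
      · exact ⟨0, by simp [hu0]⟩
      exact ((E.moving_or_line hlinM hd4 hg hu hu0).resolve_left hex) k

/-- The degree of a subfield of matrices divides the size. -/
theorem degree_dvd {ι : Type} [Fintype ι] [DecidableEq ι] {r : ℕ} (hr : r.Prime) (A : Subalgebra F (Matrix ι ι F))
    (hA : Cfsg.Geo.IsFieldSubalgebra r A) : r ∣ Fintype.card ι := by
  classical
  haveI : Nontrivial A := Module.nontrivial_of_finrank_pos (R := F) (by rw [hA.finrank_eq]; exact hr.pos)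
  letI : CommRing A := { (inferInstance : Ring A) with mul_comm := fun a b => Subtype.ext (hA.comm _ a.2 _ b.2) }
  have hfield : IsField A :=
    { exists_pair_ne := exists_pair_ne A
      mul_comm := mul_comm
      mul_inv_cancel := fun {a} ha => by
        obtain ⟨y, hy, h⟩ := hA.inv _ a.2 (fun h0 => ha (Subtype.ext h0))
        exact ⟨⟨y, hy⟩, Subtype.ext h⟩ }
  letI : Field A := hfield.toField
  letI modA : Module A (ι → F) :=
    Module.compHom _ (((Matrix.toLinAlgEquiv' : Matrix ι ι F ≃ₐ[F] _).toAlgHom.comp A.val).toRingHom)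
  letI : SMul A (ι → F) := modA.toDistribMulAction.toSMul
  haveI : IsScalarTower F A (ι → F) := IsScalarTower.of_algebraMap_smul fun c x => by
    change (algebraMap F (Matrix ι ι F) c) *ᵥ x = c • x
    rw [Algebra.algebraMap_eq_smul_one, Matrix.smul_mulVec, Matrix.one_mulVec]
  haveI : FiniteDimensional F A := Module.finite_of_finrank_pos (by rw [hA.finrank_eq]; exact hr.pos)
  have h := Module.finrank_mul_finrank F A (ι → F)
  rw [hA.finrank_eq, Module.finrank_fintype_fun_eq_card] at h
  exact ⟨_, h.symm⟩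

/-- The normaliser of a self-adjoint subfield of prime degree in Omega, odd characteristic. -/
theorem isMaximalIn_orthField_of_le {ι : Type} [Fintype ι] [DecidableEq ι] {r : ℕ} (hr : r.Prime)
    (h2 : (2 : F) ≠ 0) (hd : 4 * r ≤ Fintype.card ι)
    (Q : (ι → F) → F) (hQ : Cfsg.Geo.IsNondegenerateQuadraticForm Q) (A : Subalgebra F (Matrix ι ι F))
    (hA : Cfsg.Geo.IsFieldSubalgebra r A) (hsa : Cfsg.Geo.IsSelfAdjointFor (QuadraticMap.polar Q) A) :
    Cfsg.Geo.IsMaximalIn (Cfsg.Geo.omegaGL Q) (Cfsg.Geo.subalgebraNormalizer A ⊓ Cfsg.Geo.omegaGL Q) := by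
  obtain ⟨q, hq, hQ'⟩ := exists_quadraticForm hQ
  subst hq
  classical
  haveI : Nontrivial A := Module.nontrivial_of_finrank_pos (R := F) (by rw [hA.finrank_eq]; exact hr.pos)
  letI : CommRing A := { (inferInstance : Ring A) with mul_comm := fun a b => Subtype.ext (hA.comm _ a.2 _ b.2) }
  have hfield : IsField A :=
    { exists_pair_ne := exists_pair_ne A
      mul_comm := mul_comm
      mul_inv_cancel := fun {a} ha => by
        obtain ⟨y, hy, h⟩ := hA.inv _ a.2 (fun h0 => ha (Subtype.ext h0))
        exact ⟨⟨y, hy⟩, Subtype.ext h⟩ }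
  letI : Field A := hfield.toField
  letI modA : Module A (ι → F) :=
    Module.compHom _ (((Matrix.toLinAlgEquiv' : Matrix ι ι F ≃ₐ[F] _).toAlgHom.comp A.val).toRingHom)
  letI : SMul A (ι → F) := modA.toDistribMulAction.toSMul
  have hsmul : ∀ (a : A) (x : ι → F), a • x = (a : Matrix ι ι F) *ᵥ x := fun a x => rfl
  haveI : IsScalarTower F A (ι → F) := IsScalarTower.of_algebraMap_smul fun c x => by
    refine (hsmul _ x).trans ?_
    change (algebraMap F (Matrix ι ι F) c) *ᵥ x = c • x
    rw [Algebra.algebraMap_eq_smul_one, Matrix.smul_mulVec, Matrix.one_mulVec]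
  haveI : FiniteDimensional F A := Module.finite_of_finrank_pos (by rw [hA.finrank_eq]; exact hr.pos)
  refine core (K := A) q hQ' h2 (hA.finrank_eq ▸ hr) (by rw [hA.finrank_eq]; exact hd)
    (fun k x y => ?_) (fun g hg => ?_) (fun g hg k => ?_)
  · rw [hsmul, hsmul]; exact hsa k k.2 x y
  · refine UnitOver.mem_normalizer_of_semi fun k hk => ?_
    obtain ⟨k', hk'⟩ := hg ⟨k, hk⟩
    exact ⟨k', k'.2, fun x => by simpa [hsmul] using hk' x⟩
  · obtain ⟨k', hk', h'⟩ := UnitOver.semi_of_mem_normalizer hg k.2
    exact ⟨⟨k', hk'⟩, fun x => by simpa [hsmul] using h' x⟩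

/-- The same with the dimension bound of the generic statement. -/
theorem isMaximalIn_orthField {ι : Type} [Fintype ι] [DecidableEq ι] {r : ℕ} (hr : r.Prime)
    (h2 : (2 : F) ≠ 0) (hd : 4 * r ≤ Fintype.card ι) (_h7 : r = 2 → 7 * r ≤ Fintype.card ι)
    (Q : (ι → F) → F) (hQ : Cfsg.Geo.IsNondegenerateQuadraticForm Q) (A : Subalgebra F (Matrix ι ι F))
    (hA : Cfsg.Geo.IsFieldSubalgebra r A) (hsa : Cfsg.Geo.IsSelfAdjointFor (QuadraticMap.polar Q) A) :
    Cfsg.Geo.IsMaximalIn (Cfsg.Geo.omegaGL Q) (Cfsg.Geo.subalgebraNormalizer A ⊓ Cfsg.Geo.omegaGL Q) :=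
  isMaximalIn_orthField_of_le hr h2 hd Q hQ A hA hsa

end CfsgLib.Classical22.OrthField
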